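import Mathlib

/-!
# Invariant partitions of a finite group

`IsPart K`: `K g` is the component of `g` in a partition invariant under conjugation (`K 1 = ⊥`).
-/

set_option autoImplicit false
set_option linter.style.haveILetI false
set_option linter.unusedSectionVars false

namespace CfsgLib.Partition

open Subgroup

universe u

variable {G : Type u} [Group G]

/-- An invariant nontrivial partition, given by the component of each element. -/
structure IsPart (K : G → Subgroup G) : Prop where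
  mem : ∀ g, g ∈ K g
  one : K 1 = ⊥
  eq : ∀ g x, x ∈ K g → x ≠ 1 → K x = K g
  ne_top : ∀ g, K g ≠ ⊤
  conj : ∀ g x y, y ∈ K x → g * y * g⁻¹ ∈ K (g * x * g⁻¹)

/-- Any partition has an invariant refinement. -/
theorem exists_isPart (S : Set (Subgroup G)) (hS2 : ∃ H ∈ S, ∃ K ∈ S, H ≠ K)
    (hS1 : ∀ H ∈ S, H ≠ ⊥) (hpart : ∀ g : G, g ≠ 1 → ∃! H : Subgroup G, H ∈ S ∧ g ∈ H) :
    ∃ K : G → Subgroup G, IsPart K := by
  classical
  have hex : ∀ g : G, ∃ H : Subgroup G, g ∈ H ∧ (g = 1 → H = ⊥) ∧ (g ≠ 1 → H ∈ S) := fun g => by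
    by_cases h : g = 1
    · exact ⟨⊥, h ▸ one_mem _, fun _ => rfl, fun h' => absurd h h'⟩
    · obtain ⟨H, ⟨hH, hg⟩, -⟩ := hpart g h
      exact ⟨H, hg, fun h' => absurd h' h, fun _ => hH⟩
  choose c hc hc1 hcS using hex
  have heq : ∀ g x, x ∈ c g → x ≠ 1 → c x = c g := fun g x hx hx1 => by
    have hg : g ≠ 1 := fun h => hx1 (by rw [hc1 g h, mem_bot] at hx; exact hx)
    exact (hpart x hx1).unique ⟨hcS x hx1, hc x⟩ ⟨hcS g hg, hx⟩
  have htop : ∀ g, c g ≠ ⊤ := by
    obtain ⟨A, hA, B, hB, hne⟩ := hS2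
    intro g h
    obtain ⟨⟨a, haA⟩, ha⟩ := Subgroup.ne_bot_iff_exists_ne_one.1 (hS1 A hA)
    have ha1 : a ≠ 1 := fun e => ha (Subtype.ext e)
    obtain ⟨⟨b, hbB⟩, hb⟩ := Subgroup.ne_bot_iff_exists_ne_one.1 (hS1 B hB)
    have hb1 : b ≠ 1 := fun e => hb (Subtype.ext e)
    refine hne ?_
    rw [(hpart a ha1).unique ⟨hA, haA⟩ ⟨hcS a ha1, hc a⟩, heq g a (h ▸ mem_top a) ha1,
      (hpart b hb1).unique ⟨hB, hbB⟩ ⟨hcS b hb1, hc b⟩, heq g b (h ▸ mem_top b) hb1]
  refine ⟨fun g => ⨅ h : G, (c (h * g * h⁻¹)).comap (MulAut.conj h).toMonoidHom,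
    fun g => ?_, ?_, fun g x hx hx1 => ?_, fun g h => ?_, fun g x y hy => ?_⟩
  · simp only [mem_iInf, mem_comap]
    exact fun h => hc _
  · refine eq_bot_iff.2 fun y hy => ?_
    simp only [mem_iInf, mem_comap] at hy
    have h := hy 1
    rw [show (1 : G) * 1 * 1⁻¹ = 1 by group, hc1 1 rfl, mem_bot] at h
    simpa using h
  · simp only [mem_iInf, mem_comap] at hx
    refine iInf_congr fun h => ?_
    have hx' : h * x * h⁻¹ ∈ c (h * g * h⁻¹) := hx h
    rw [heq _ _ hx' (by simpa using hx1)]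
  · refine htop g (eq_top_iff.2 fun y _ => ?_)
    have h1 : y ∈ ⨅ h : G, (c (h * g * h⁻¹)).comap (MulAut.conj h).toMonoidHom := by
      rw [show (⨅ h : G, (c (h * g * h⁻¹)).comap (MulAut.conj h).toMonoidHom) = ⊤ from h]
      exact mem_top y
    simp only [mem_iInf, mem_comap] at h1
    simpa using h1 1
  · simp only [mem_iInf, mem_comap] at hy ⊢
    intro h
    have := hy (h * g)
    simpa [mul_assoc] using this

namespace IsPart

variable {K : G → Subgroup G} (d : IsPart K)
include d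

theorem mem_iff {g x : G} (hx : x ≠ 1) : x ∈ K g ↔ K x = K g :=
  ⟨fun h => d.eq g x h hx, fun h => h ▸ d.mem x⟩

theorem eq_one_of_mem {g h x : G} (hne : K g ≠ K h) (hg : x ∈ K g) (hh : x ∈ K h) : x = 1 := by
  by_contra hx
  exact hne ((d.eq g x hg hx).symm.trans (d.eq h x hh hx))

theorem pow_mem_eq {x : G} {k : ℕ} (hk : x ^ k ≠ 1) : K (x ^ k) = K x :=
  d.eq x _ (pow_mem (d.mem x) k) hk

theorem conj_mem_iff {g x y : G} : g * y * g⁻¹ ∈ K (g * x * g⁻¹) ↔ y ∈ K x := by
  refine ⟨fun h => ?_, d.conj g x y⟩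
  have := d.conj g⁻¹ _ _ h
  simpa [mul_assoc] using this

/-- An element centralizing `x` normalizes the component of `x`. -/
theorem conj_mem_of_comm {g x y : G} (h : g * x = x * g) (hy : y ∈ K x) : g * y * g⁻¹ ∈ K x := by
  have := d.conj g x y hy
  rwa [h, mul_inv_cancel_right] at this

/-- An element moving a nontrivial element of a component into it normalizes it. -/
theorem conj_mem_of_conj {g x z y : G} (hz : z ∈ K x) (hz1 : z ≠ 1) (hgz : g * z * g⁻¹ ∈ K x)
    (hy : y ∈ K x) : g * y * g⁻¹ ∈ K x := by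
  have h1 : K z = K x := d.eq x z hz hz1
  have h2 : K (g * z * g⁻¹) = K x := d.eq x _ hgz (by simpa using hz1)
  exact h2 ▸ d.conj g z y (h1 ▸ hy)

theorem mem_normalizer [Finite G] {g x z : G} (hz : z ∈ K x) (hz1 : z ≠ 1) (hgz : g * z * g⁻¹ ∈ K x) :
    g ∈ normalizer (K x : Set G) := by
  refine mem_normalizer_iff.2 fun y => ⟨d.conj_mem_of_conj hz hz1 hgz, fun hy => ?_⟩
  have h2 : K (g * z * g⁻¹) = K x := d.eq x _ hgz (by simpa using hz1)
  have h3 : g * y * g⁻¹ ∈ K (g * z * g⁻¹) := h2.symm ▸ hy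
  exact (d.eq x z hz hz1) ▸ d.conj_mem_iff.1 h3

/-- Commuting elements in different components have the same prime order. -/
theorem prime_of_comm [Finite G] {x y : G} (hx : x ≠ 1) (hy : y ≠ 1) (h : x * y = y * x) (hne : K x ≠ K y) :
    (orderOf x).Prime ∧ orderOf x = orderOf y := by
  have key : ∀ a b : G, a ≠ 1 → b ≠ 1 → a * b = b * a → K a ≠ K b → ∀ k : ℕ, a ^ k = 1 → b ^ k = 1 := by
    intro a b ha hb hab hne k hk
    by_contra hbk
    have hpow : (a * b) ^ k = b ^ k := by rw [(show Commute a b from hab).mul_pow, hk, one_mul]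
    have hL : K (a * b) = K b := by
      rw [← d.pow_mem_eq hbk, ← d.pow_mem_eq (x := a * b) (k := k) (by rwa [hpow]), hpow]
    refine hne ?_
    have hmem : a * b ∈ K b := hL ▸ d.mem (a * b)
    have ha' : a ∈ K b := by
      have := mul_mem hmem (inv_mem (d.mem b))
      rwa [mul_inv_cancel_right] at this
    exact d.eq b a ha' ha
  have heq : orderOf x = orderOf y := Nat.dvd_antisymm
    (orderOf_dvd_of_pow_eq_one (key y x hy hx h.symm hne.symm _ (pow_orderOf_eq_one y)))
    (orderOf_dvd_of_pow_eq_one (key x y hx hy h hne _ (pow_orderOf_eq_one x)))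
  refine ⟨?_, heq⟩
  obtain ⟨p, hp, hpd⟩ := Nat.exists_prime_and_dvd (mt orderOf_eq_one_iff.1 hx)
  by_contra hnp
  have hxp : x ^ p ≠ 1 := fun e => hnp (by
    rcases (Nat.dvd_prime hp).1 (orderOf_dvd_of_pow_eq_one e) with h1 | h1
    · exact absurd (orderOf_eq_one_iff.1 h1) hx
    · exact h1 ▸ hp)
  have hx' : orderOf (x ^ p) = orderOf x / p := orderOf_pow_of_dvd hp.ne_zero hpd
  have h' : x ^ p * y = y * x ^ p := (show Commute x y from h).pow_left p
  have := orderOf_dvd_of_pow_eq_one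
    (key (x ^ p) y hxp hy h' (by rwa [d.pow_mem_eq hxp]) _ (pow_orderOf_eq_one (x ^ p)))
  rw [hx', ← heq] at this
  have h0 := Nat.le_of_dvd (Nat.div_pos (Nat.le_of_dvd (orderOf_pos x) hpd) hp.pos) this
  have h1 := Nat.div_lt_self (orderOf_pos x) hp.one_lt
  omega

/-- Commuting elements of different orders share their component. -/
theorem mem_of_comm [Finite G] {x y : G} (hx : x ≠ 1) (h : x * y = y * x) (ho : orderOf x ≠ orderOf y) :
    y ∈ K x := by
  by_cases hy : y = 1
  · exact hy ▸ one_mem _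
  by_contra hne
  exact ho (d.prime_of_comm hx hy h fun e => hne (e ▸ d.mem y)).2

/-- Commuting elements, one of composite order, share their component. -/
theorem mem_of_comm_not_prime [Finite G] {x y : G} (hx : x ≠ 1) (h : x * y = y * x)
    (ho : ¬ (orderOf x).Prime) : y ∈ K x := by
  by_cases hy : y = 1
  · exact hy ▸ one_mem _
  by_contra hne
  exact ho (d.prime_of_comm hx hy h fun e => hne (e ▸ d.mem y)).1

end IsPart

end CfsgLib.Partition
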