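import Mathlib

/-!
# Norms of elements acting on an abelian normal subgroup

If two elements `y`, `a` acting on `V` span (modulo the kernel) a group of type `r × r` or non-abelian `r : n`
and all the relevant norms vanish, then `V` has exponent dividing `r`.
-/

set_option autoImplicit false
set_option linter.style.haveILetI false
set_option linter.unusedSectionVars false

namespace CfsgLib.Partition

open Subgroup
open scoped IsMulCommutative

universe u

variable {G : Type u} [Group G] (V : Subgroup G) [V.Normal] [IsMulCommutative V]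

/-- The norm of `g` over `n` steps. -/
noncomputable def nrm (g : G) (n : ℕ) (v : V) : V :=
  ∏ j ∈ Finset.range n, ((MulAut.conjNormal g : MulAut V) ^ j) v

theorem nrm_succ (g : G) (n : ℕ) (v : V) :
    nrm V g (n + 1) v = v * (MulAut.conjNormal g : MulAut V) (nrm V g n v) := by
  rw [nrm, Finset.prod_range_succ', mul_comm, nrm, map_prod, pow_zero]
  congr 1
  refine Finset.prod_congr rfl fun j _ => ?_
  rw [pow_succ']
  rfl

theorem coe_nrm_mul_pow (g : G) (n : ℕ) (v : V) : ((v : G) * g) ^ n = (nrm V g n v : G) * g ^ n := by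
  induction n with
  | zero => simp [nrm]
  | succ n ih =>
    rw [pow_succ', ih, nrm_succ, Subgroup.coe_mul, MulAut.conjNormal_apply, pow_succ']
    group

theorem nrm_mul (g : G) (n : ℕ) (v w : V) : nrm V g n (v * w) = nrm V g n v * nrm V g n w := by
  simp [nrm, Finset.prod_mul_distrib]

/-- The norm is fixed by `g` as soon as `g ^ n` acts trivially. -/
theorem conj_nrm (g : G) (n : ℕ) (hg : ∀ v : V, ((MulAut.conjNormal g : MulAut V) ^ n) v = v) (v : V) :
    (MulAut.conjNormal g : MulAut V) (nrm V g n v) = nrm V g n v := by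
  have h1 := nrm_succ V g n v
  rw [nrm, Finset.prod_range_succ, hg v, ← nrm, mul_comm] at h1
  exact (mul_left_cancel h1).symm

theorem nrm_eq_one_of_fpf (g : G) (n : ℕ) (hg : g ^ n ∈ centralizer (V : Set G))
    (hf : ∀ v : V, (v : G) * g = g * v → v = 1) (v : V) : nrm V g n v = 1 := by
  refine hf _ ?_
  have h := congrArg Subtype.val (conj_nrm V g n (fun w => Subtype.ext (by
    rw [← map_pow, MulAut.conjNormal_apply, mul_inv_eq_iff_eq_mul]
    exact (mem_centralizer_iff.1 hg w w.2).symm)) v)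
  rw [MulAut.conjNormal_apply, mul_inv_eq_iff_eq_mul] at h
  exact h.symm

theorem pow_act_comm {H : Type*} [Group H] {Y A : H} {k : ℕ} (h : A * Y = Y ^ k * A) (m : ℕ) : A * Y ^ m = Y ^ (k * m) * A := by
  induction m with
  | zero => simp
  | succ m ih => rw [pow_succ, ← mul_assoc, ih, mul_assoc, h, ← mul_assoc, ← pow_add, Nat.mul_succ]

theorem mul_pow_act {H : Type*} [Group H] {Y A : H} {k : ℕ} (h : A * Y = Y ^ k * A) (i : ℕ) : ∀ j : ℕ,
    (Y ^ i * A) ^ j = Y ^ (i * ∑ l ∈ Finset.range j, k ^ l) * A ^ j := by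
  intro j
  induction j with
  | zero => simp
  | succ j ih =>
    rw [pow_succ', ih, mul_assoc, ← mul_assoc A, pow_act_comm h, ← mul_assoc, ← mul_assoc,
      ← pow_add, mul_assoc, ← pow_succ']
    congr 2
    rw [Finset.sum_range_succ', mul_add, pow_zero, mul_one, add_comm, Finset.mul_sum, Finset.mul_sum,
      Finset.mul_sum]
    congr 1
    exact Finset.sum_congr rfl fun l _ => by ring

/-- **Norms kill**: vanishing norms of a group of type `r × r` or non-abelian `r : n` force exponent `r`. -/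
theorem norm_kill {y a : G} {r n k : ℕ} (hr : r.Prime) (hn : 1 ≤ n)
    (hconj : (MulAut.conjNormal a : MulAut V) * MulAut.conjNormal y =
      (MulAut.conjNormal y : MulAut V) ^ k * MulAut.conjNormal a)
    (hy1 : (MulAut.conjNormal y : MulAut V) ^ r = 1)
    (hy : ∀ v : V, nrm V y r v = 1) (ha : ∀ i < r, ∀ v : V, nrm V (y ^ i * a) n v = 1)
    (hc : ∀ j, 1 ≤ j → j < n → ¬ r ∣ ∑ l ∈ Finset.range j, k ^ l) (v : V) : v ^ r = 1 := by
  set Y : MulAut V := MulAut.conjNormal y with hY
  set A : MulAut V := MulAut.conjNormal a with hA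
  have h1 : ∏ i ∈ Finset.range r, ∏ j ∈ Finset.range n, ((Y ^ i * A) ^ j) v = 1 :=
    Finset.prod_eq_one fun i hi => by
      have := ha i (Finset.mem_range.1 hi) v
      rwa [nrm, map_mul, map_pow] at this
  rw [Finset.prod_comm] at h1
  have h0 : ∀ j ∈ Finset.range n, j ≠ 0 → ∏ i ∈ Finset.range r, ((Y ^ i * A) ^ j) v = 1 := by
    intro j hj hj0
    set c := ∑ l ∈ Finset.range j, k ^ l with hcdef
    have hcop : r.Coprime c := hr.coprime_iff_not_dvd.2 (hc j (by omega) (Finset.mem_range.1 hj))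
    rw [Finset.prod_congr rfl fun i _ => show ((Y ^ i * A) ^ j) v = (Y ^ (i * c % r)) ((A ^ j) v) by
      rw [mul_pow_act hconj, ← pow_eq_pow_mod _ hy1]; rfl]
    refine (Finset.prod_nbij (fun i => i * c % r) (fun i _ => Finset.mem_range.2 (Nat.mod_lt _ hr.pos)) ?_ ?_
      fun i _ => rfl).trans (hy ((A ^ j) v))
    · intro i hi i' hi' e
      have h2 : i ≡ i' [MOD r] := Nat.ModEq.cancel_right_of_coprime hcop (show i * c ≡ i' * c [MOD r] from e)
      rw [Nat.ModEq, Nat.mod_eq_of_lt (Finset.mem_range.1 hi), Nat.mod_eq_of_lt (Finset.mem_range.1 hi')] at h2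
      exact h2
    · intro m hm
      have hcar : (Finset.range r).image (fun i => i * c % r) = Finset.range r := by
        refine Finset.eq_of_subset_of_card_le (fun x hx => ?_) ?_
        · obtain ⟨i, -, rfl⟩ := Finset.mem_image.1 hx
          exact Finset.mem_range.2 (Nat.mod_lt _ hr.pos)
        · rw [Finset.card_image_of_injOn]
          intro i hi i' hi' e
          have h2 : i ≡ i' [MOD r] :=
            Nat.ModEq.cancel_right_of_coprime hcop (show i * c ≡ i' * c [MOD r] from e)
          rw [Nat.ModEq, Nat.mod_eq_of_lt (Finset.mem_range.1 hi), Nat.mod_eq_of_lt (Finset.mem_range.1 hi')] at h2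
          exact h2
      rw [Finset.mem_coe] at hm
      rw [← hcar, Finset.mem_image] at hm
      obtain ⟨i, hi, e⟩ := hm
      exact ⟨i, hi, e⟩
  rw [Finset.prod_eq_single 0 h0 (fun h => absurd (Finset.mem_range.2 hn) h)] at h1
  simpa using h1

theorem pow_conj_iterate {H : Type*} [Group H] {Y A : H} {k : ℕ} (h : A * Y = Y ^ k * A) :
    ∀ j : ℕ, A ^ j * Y = Y ^ k ^ j * A ^ j := by
  intro j
  induction j with
  | zero => simp
  | succ j ih => rw [pow_succ', mul_assoc, ih, ← mul_assoc, pow_act_comm h, mul_assoc, pow_succ']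

/-- **The quotient form**: if every lift of an element of prime order outside `N` has trivial norm on `V`, then
a subgroup `r × r` or non-abelian `r : n` of `G / N` forces exponent `r` on `V`. -/
theorem pow_eq_one_of_semi (N : Subgroup G) [N.Normal] (hcent : N ≤ centralizer (V : Set G))
    (hnrm : ∀ g : G, g ∉ N → ∀ m : ℕ, m.Prime → g ^ m ∈ N → ∀ v : V, nrm V g m v = 1)
    {u w : G ⧸ N} {r n k : ℕ} (hr : r.Prime) (hn : n.Prime) (hu : orderOf u = r) (hw : orderOf w = n)
    (hk : w * u = u ^ k * w) (hcase : (k % r = 1 ∧ n = r ∧ w ∉ zpowers u) ∨ k % r ≠ 1) (v : V) :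
    v ^ r = 1 := by
  haveI := Fact.mk hr
  have hsum : ((∑ l ∈ Finset.range n, k ^ l : ℕ) : ZMod r) = 0 ∧
      (∀ j, 1 ≤ j → j < n → ¬ r ∣ ∑ l ∈ Finset.range j, k ^ l) ∧ w ∉ zpowers u := by
    rcases hcase with ⟨h1, rfl, h3⟩ | h1
    · have hk1 : (k : ZMod n) = 1 := by rw [← ZMod.natCast_mod, h1, Nat.cast_one]
      refine ⟨by simp [hk1], fun j hj hjn hd => ?_, h3⟩
      have hc : (∑ l ∈ Finset.range j, k ^ l) ≡ j [MOD n] := by
        rw [← ZMod.natCast_eq_natCast_iff]; simp [hk1]
      have := Nat.le_of_dvd hj ((Nat.ModEq.dvd_iff hc dvd_rfl).1 hd)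
      omega
    · have hk1 : (k : ZMod r) ≠ 1 := fun e => h1 (by
        have := (ZMod.natCast_eq_natCast_iff' k 1 r).1 (by rw [e, Nat.cast_one])
        rwa [Nat.mod_eq_of_lt hr.one_lt] at this)
      have hpow : ∀ j, n ∣ j → (k : ZMod r) ^ j = 1 := by
        intro j hj
        have h2 := pow_conj_iterate hk j
        rw [orderOf_dvd_iff_pow_eq_one.1 (hw ▸ hj), one_mul, mul_one] at h2
        have h3 : u ^ k ^ j = u ^ 1 := by rw [pow_one]; exact h2.symm
        have h4 := (ZMod.natCast_eq_natCast_iff (k ^ j) 1 r).2 (hu ▸ pow_eq_pow_iff_modEq.1 h3)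
        simpa using h4
      have hord : orderOf (k : ZMod r) = n := by
        rcases (Nat.dvd_prime hn).1 (orderOf_dvd_of_pow_eq_one (hpow n dvd_rfl)) with h | h
        · exact absurd (orderOf_eq_one_iff.1 h) hk1
        · exact h
      have hgeom : ∀ j, ((∑ l ∈ Finset.range j, k ^ l : ℕ) : ZMod r) * ((k : ZMod r) - 1) =
          (k : ZMod r) ^ j - 1 := fun j => by
        push_cast
        exact geom_sum_mul _ j
      refine ⟨?_, fun j hj hjn hd => ?_, fun hmem => h1 ?_⟩
      · have h := hgeom n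
        rw [hpow n dvd_rfl, sub_self, mul_eq_zero] at h
        exact h.resolve_right (sub_ne_zero.2 hk1)
      · have h := hgeom j
        rw [(ZMod.natCast_eq_zero_iff _ _).2 hd, zero_mul] at h
        exact absurd (Nat.le_of_dvd hj (hord ▸ orderOf_dvd_of_pow_eq_one (sub_eq_zero.1 h.symm))) (not_le.2 hjn)
      · obtain ⟨i, rfl⟩ := hmem
        have h2 : u ^ k = u ^ 1 := mul_right_cancel (b := u ^ i) (by
          rw [pow_one, ← hk]
          exact ((Commute.refl u).zpow_left i).eq)
        have h3 : k % r = 1 % r := hu ▸ pow_eq_pow_iff_modEq.1 h2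
        rwa [Nat.mod_eq_of_lt hr.one_lt] at h3
  obtain ⟨y, rfl⟩ := QuotientGroup.mk_surjective u
  obtain ⟨a, rfl⟩ := QuotientGroup.mk_surjective w
  have hact : ∀ x z : G, (x : G ⧸ N) = z → (MulAut.conjNormal x : MulAut V) = MulAut.conjNormal z := by
    intro x z hxz
    refine MulEquiv.ext fun t => Subtype.ext ?_
    have hmem := mem_centralizer_iff.1 (hcent (QuotientGroup.eq.1 hxz)) t t.2
    rw [MulAut.conjNormal_apply, MulAut.conjNormal_apply]
    calc x * (t : G) * x⁻¹ = x * ((t : G) * (x⁻¹ * z)) * z⁻¹ := by group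
      _ = z * t * z⁻¹ := by rw [hmem]; group
  refine norm_kill V (y := y) (a := a) (k := k) hr hn.one_le ?_ ?_ (hnrm y ?_ r hr ?_)
    (fun i _ => hnrm (y ^ i * a) ?_ n hn ?_) hsum.2.1 v
  · rw [← map_mul, ← map_pow, ← map_mul]
    exact hact _ _ (by rw [QuotientGroup.mk_mul, QuotientGroup.mk_mul, QuotientGroup.mk_pow]; exact hk)
  · rw [← map_pow, hact (y ^ r) 1 (by rw [QuotientGroup.mk_pow, ← hu, pow_orderOf_eq_one, QuotientGroup.mk_one]),
      map_one]
  · exact fun h => hr.ne_one (by rw [← hu, (QuotientGroup.eq_one_iff y).2 h, orderOf_one])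
  · rw [← QuotientGroup.eq_one_iff, QuotientGroup.mk_pow, ← hu, pow_orderOf_eq_one]
  · intro h
    rw [← QuotientGroup.eq_one_iff, QuotientGroup.mk_mul, QuotientGroup.mk_pow, mul_eq_one_iff_eq_inv'] at h
    exact hsum.2.2 (h ▸ inv_mem (pow_mem (mem_zpowers _) i))
  · rw [← QuotientGroup.eq_one_iff, QuotientGroup.mk_pow, QuotientGroup.mk_mul, QuotientGroup.mk_pow,
      mul_pow_act hk, ← hw, pow_orderOf_eq_one, mul_one, ← orderOf_dvd_iff_pow_eq_one, hu, hw]
    exact Dvd.dvd.mul_left ((ZMod.natCast_eq_zero_iff _ _).1 hsum.1) i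

end CfsgLib.Partition
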