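import Cfsg.Agent.Lib.Partition.Basic
import Cfsg.Agent.Lib.Partition.Norm
import Cfsg.Agent.Lib.PGroup.Splitting
import Cfsg.Agent.Lib.Coprime.Fitting
import Cfsg.Agent.Lib.Coprime.Frobenius
import Cfsg.Agent.Lib.Coprime.Solvable

/-!
# A normal component

If `F` is a normal component of an invariant partition, every element outside `F` meets `F` trivially in its
cyclic group, `F` is nilpotent (Kegel) and the quotient is restricted by norms.
-/

set_option autoImplicit false
set_option linter.style.haveILetI false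
set_option linter.unusedSectionVars false

namespace CfsgLib.Partition

open Subgroup

universe u

variable {G : Type u} [Group G] [Finite G]

/-- The elements of exponent `s` in the centre of `F`. -/
def omega (F : Subgroup G) (s : ℕ) : Subgroup G where
  carrier := {x | x ∈ F ∧ x ^ s = 1 ∧ ∀ f ∈ F, f * x = x * f}
  one_mem' := ⟨one_mem F, one_pow s, fun f _ => by simp⟩
  mul_mem' := fun {x y} hx hy => ⟨mul_mem hx.1 hy.1,
    by rw [(show Commute x y from hy.2.2 x hx.1).mul_pow, hx.2.1, hy.2.1, one_mul],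
    fun f hf => ((show Commute f x from hx.2.2 f hf).mul_right (hy.2.2 f hf)).eq⟩
  inv_mem' := fun {x} hx => ⟨inv_mem hx.1, by rw [inv_pow, hx.2.1, inv_one],
    fun f hf => (show Commute f x from hx.2.2 f hf).inv_right.eq⟩

instance omega_comm (F : Subgroup G) (s : ℕ) : IsMulCommutative (omega F s) :=
  ⟨⟨fun a b => Subtype.ext (b.2.2.2 a a.2.1)⟩⟩

instance omega_normal (F : Subgroup G) [hF : F.Normal] (s : ℕ) : (omega F s).Normal := ⟨fun x hx g =>
  ⟨hF.conj_mem x hx.1 g, by rw [conj_pow, hx.2.1]; group, fun f hf => by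
    have h := hx.2.2 _ (hF.conj_mem f hf g⁻¹)
    calc f * (g * x * g⁻¹) = g * (g⁻¹ * f * g⁻¹⁻¹ * x) * g⁻¹ := by group
      _ = g * (x * (g⁻¹ * f * g⁻¹⁻¹)) * g⁻¹ := by rw [h]
      _ = g * x * g⁻¹ * f := by group⟩⟩

/-- A normal component. -/
structure NComp (K : G → Subgroup G) (F : Subgroup G) : Prop where
  part : IsPart K
  ne_bot : F ≠ ⊥
  comp : ∀ x ∈ F, x ≠ 1 → K x = F

namespace NComp

variable {K : G → Subgroup G} {F : Subgroup G} [hFn : F.Normal] (d : NComp K F)
include d

theorem ne_top : F ≠ ⊤ := by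
  obtain ⟨⟨x, hx⟩, hx1⟩ := Subgroup.ne_bot_iff_exists_ne_one.1 d.ne_bot
  exact d.comp x hx (fun e => hx1 (Subtype.ext e)) ▸ d.part.ne_top x

theorem pow_eq_one {x : G} (hx : x ∉ F) {k : ℕ} (hk : x ^ k ∈ F) : x ^ k = 1 := by
  by_contra h
  exact hx (d.comp _ hk h ▸ d.part.pow_mem_eq h ▸ d.part.mem x)

/-- An element outside `F` has the order of its image. -/
theorem orderOf_mk {x : G} (hx : x ∉ F) : orderOf (x : G ⧸ F) = orderOf x := by
  refine Nat.dvd_antisymm (orderOf_map_dvd (QuotientGroup.mk' F) x) (orderOf_dvd_of_pow_eq_one ?_)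
  refine d.pow_eq_one hx ?_
  rw [← QuotientGroup.eq_one_iff, QuotientGroup.mk_pow, pow_orderOf_eq_one]

theorem mul_notMem {f x : G} (hf : f ∈ F) (hx : x ∉ F) : f * x ∉ F := fun h => hx (by
  have := mul_mem (inv_mem hf) h
  rwa [inv_mul_cancel_left] at this)

/-- All elements of a coset outside `F` have the same powers equal to one. -/
theorem coset_pow {f x : G} (hf : f ∈ F) (hx : x ∉ F) {n : ℕ} (hn : x ^ n ∈ F) : (f * x) ^ n = 1 := by
  refine d.pow_eq_one (d.mul_notMem hf hx) ?_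
  rw [← QuotientGroup.eq_one_iff, QuotientGroup.mk_pow, QuotientGroup.mk_mul, (QuotientGroup.eq_one_iff f).2 hf,
    one_mul, ← QuotientGroup.mk_pow, QuotientGroup.eq_one_iff]
  exact hn

/-- An element outside `F` centralizing a nontrivial element of `F` has the same prime order. -/
theorem prime_of_fixes {x c : G} (hx : x ∉ F) (hc : c ∈ F) (hc1 : c ≠ 1) (h : x * c = c * x) :
    (orderOf x).Prime ∧ orderOf x = orderOf c :=
  d.part.prime_of_comm (fun e => hx (e ▸ one_mem F)) hc1 h
    fun e => hx (d.comp c hc hc1 ▸ e ▸ d.part.mem x)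

/-- The powers of an element of composite order outside `F` act fixed point freely. -/
theorem isolated {x c : G} (hx : x ∉ F) (hnp : ¬ (orderOf x).Prime) {k : ℕ} (hk : x ^ k ≠ 1)
    (hc : c ∈ F) (h : x ^ k * c = c * x ^ k) : c = 1 := by
  by_contra hc1
  have h1 : c * x * c⁻¹ ∈ K (x ^ k) :=
    d.part.conj_mem_of_comm h.symm ((d.part.pow_mem_eq hk).symm ▸ d.part.mem x)
  rw [d.part.pow_mem_eq hk] at h1
  have h2 : c * x * c⁻¹ * x⁻¹ ∈ K x := mul_mem h1 (inv_mem (d.part.mem x))
  have h3 : c * x * c⁻¹ * x⁻¹ ∈ F := by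
    rw [show c * x * c⁻¹ * x⁻¹ = c * (x * c⁻¹ * x⁻¹) by group]
    exact mul_mem hc (hFn.conj_mem _ (inv_mem hc) x)
  have h4 : c * x * c⁻¹ * x⁻¹ = 1 := by
    by_contra h4
    exact hx ((d.part.eq x _ h2 h4).symm.trans (d.comp _ h3 h4) ▸ d.part.mem x)
  exact hnp (d.prime_of_fixes hx hc hc1 (mul_inv_eq_iff_eq_mul.1 (mul_inv_eq_one.1 h4)).symm).1

theorem exists_prime_notMem : ∃ a : G, a ∉ F ∧ (orderOf a).Prime := by
  obtain ⟨p, hp, hpd⟩ := Nat.exists_prime_and_dvd (mt index_eq_one.1 d.ne_top)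
  haveI := Fact.mk hp
  rw [index_eq_card] at hpd
  obtain ⟨w, hw⟩ := exists_prime_orderOf_dvd_card' p hpd
  obtain ⟨a, rfl⟩ := QuotientGroup.mk_surjective w
  have ha : a ∉ F := fun h => hp.ne_one (by
    rw [← hw, (QuotientGroup.eq_one_iff a).2 h, orderOf_one])
  exact ⟨a, ha, by rw [← d.orderOf_mk ha, hw]; exact hp⟩

/-- **Kegel**: a normal component is nilpotent. -/
theorem isNilpotent : Group.IsNilpotent F := by
  obtain ⟨a, ha, hap⟩ := d.exists_prime_notMem
  let L := F ⊔ zpowers a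
  have hSP : CfsgLib.PGroup.SplitPair (F.subgroupOf L) (⟨a, mem_sup_right (mem_zpowers a)⟩ : L) (orderOf a) := by
    refine ⟨inferInstance, fun h => ha h, ?_, fun x hx => Subtype.ext ?_⟩
    · apply Subgroup.map_injective L.subtype_injective
      rw [Subgroup.map_sup, subgroupOf_map_subtype, inf_eq_left.2 le_sup_left, MonoidHom.map_zpowers,
        ← MonoidHom.range_eq_map, range_subtype]
      rfl
    · exact d.coset_pow (show (x : G) ∈ F from hx) ha (by rw [pow_orderOf_eq_one]; exact one_mem F)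
  haveI := CfsgLib.PGroup.SplitPair.isNilpotent hap hSP
  exact Group.nilpotent_of_mulEquiv (subgroupOfEquivOfLe (le_sup_left : F ≤ L))

theorem omega_ne_bot {s : ℕ} (hs : s.Prime) (hd : s ∣ Nat.card F) : omega F s ≠ ⊥ := by
  haveI := Fact.mk hs
  haveI := d.isNilpotent
  obtain ⟨Q⟩ : Nonempty (Sylow s F) := inferInstance
  haveI : (Q : Subgroup F).Normal := Q.normal_of_normalizerCondition normalizerCondition_of_isNilpotent
  have hne := CfsgLib.Coprime.nilpotent_inf_center_ne_bot (Q : Subgroup F) (Q.ne_bot_of_dvd_card hd)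
  obtain ⟨k, hk⟩ := (Q.2.to_le (inf_le_left : (Q : Subgroup F) ⊓ center F ≤ Q)).exists_card_eq
  have hk0 : k ≠ 0 := fun e => hne (card_eq_one.1 (by rw [hk, e, pow_zero]))
  obtain ⟨z, hz⟩ := exists_prime_orderOf_dvd_card' (G := ↥((Q : Subgroup F) ⊓ center F)) s
    (hk ▸ dvd_pow_self s hk0)
  intro e
  have hmem : ((z : F) : G) ∈ omega F s := ⟨(z : F).2,
    orderOf_dvd_iff_pow_eq_one.1 (((orderOf_coe (z : F)).trans ((orderOf_coe z).trans hz)).dvd),
    fun f hf => congrArg Subtype.val (mem_center_iff.1 z.2.2 ⟨f, hf⟩)⟩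
  rw [e, mem_bot] at hmem
  rw [← orderOf_coe z, ← orderOf_coe (z : F), hmem, orderOf_one] at hz
  exact hs.ne_one hz.symm

/-- Frobenius, when nothing outside `F` has fixed points on it. -/
theorem exists_frobenius (hfpf : ∀ a : G, a ∉ F → ∀ c ∈ F, a * c = c * a → c = 1) :
    ∃ H : Subgroup G, Cfsg.IsFrobeniusComplement H := by
  have hcop : (Nat.card F).Coprime F.index := by
    refine Nat.coprime_of_dvd fun p hp hpF hpI => ?_
    haveI := Fact.mk hp
    rw [index_eq_card] at hpI
    obtain ⟨w, hw⟩ := exists_prime_orderOf_dvd_card' p hpI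
    obtain ⟨a, rfl⟩ := QuotientGroup.mk_surjective w
    have ha : a ∉ F := fun h => hp.ne_one (by rw [← hw, (QuotientGroup.eq_one_iff a).2 h, orderOf_one])
    have hpA : IsPGroup p (zpowers a) := IsPGroup.of_card (n := 1) (by
      rw [Nat.card_zpowers, ← d.orderOf_mk ha, hw, pow_one])
    letI : MulAction (zpowers a) F :=
      MulAction.compHom F ((MulAut.conjNormal : G →* MulAut F).comp (zpowers a).subtype)
    have h1 := hpA.card_modEq_card_fixedPoints F
    have hfix : MulAction.fixedPoints (zpowers a) F = {1} := by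
      refine Set.eq_singleton_iff_unique_mem.2 ⟨fun g => map_one (MulAut.conjNormal (g : G)), fun x hx => ?_⟩
      have h2 : a * x * a⁻¹ = x := congrArg Subtype.val (hx ⟨a, mem_zpowers a⟩)
      exact Subtype.ext (hfpf a ha x x.2 (mul_inv_eq_iff_eq_mul.1 h2))
    rw [hfix, show Nat.card ({1} : Set F) = 1 from Nat.card_unique] at h1
    exact hp.not_dvd_one ((Nat.ModEq.dvd_iff h1 dvd_rfl).1 hpF)
  obtain ⟨H, hH⟩ := exists_right_complement'_of_coprime hcop
  refine ⟨H, (CfsgLib.Coprime.frob_iff_fixed_point_free hH d.ne_bot fun e => d.ne_top ?_).2 fun h hh h1 => ?_⟩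
  · have := hH.sup_eq_top
    rwa [e, sup_bot_eq] at this
  · refine (eq_bot_iff_forall _).2 fun c hc => hfpf h (fun hF => h1 ?_) c hc.1
      (mem_centralizer_singleton_iff.1 hc.2).symm
    have := hH.disjoint.le_bot ⟨hF, hh⟩
    rwa [mem_bot] at this

end NComp

end CfsgLib.Partition
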