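import Cfsg.Agent.Lib.Partition.Kernel
import Cfsg.Agent.Lib.FrobSystem.Main
import Cfsg.Agent.Lib.CIT.TI
import Cfsg.Agent.Lib.GW.DGroup.Main
import Cfsg.Agent.Lib.Invol.ThreePoint
import Cfsg.Agent.Lib.Classical.PSL2Spectrum
import Cfsg.Agent.Lib.Char.SuzukiZassenhaus.Main

/-!
# Partitions of groups without solvable normal subgroups

Suzuki: the group is `PSL(2, q)`, `PGL(2, q)` or a Suzuki group.
-/

set_option autoImplicit false
set_option linter.style.haveILetI false
set_option linter.unusedSectionVars false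

namespace CfsgLib.Partition

open Subgroup
open CfsgLib.FrobSystem (exists_le_maximal)

universe u

variable {G : Type u} [Group G] [Finite G]

/-- A component containing the centralizers of its involutions. -/
structure Iso (K : G → Subgroup G) (z : G) : Prop where
  part : IsPart K
  noSolv : ∀ R : Subgroup G, R.Normal → Group.IsSolvable R → R = ⊥
  iso : ∀ t : G, orderOf t = 2 → ∀ x : G, x * t = t * x → x ∈ K t
  invol : orderOf z = 2

namespace Iso

variable {K : G → Subgroup G} {z : G} (d : Iso K z)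
include d

theorem ne_one : z ≠ 1 := CfsgLib.Invol.invol_ne_one d.invol

theorem mem_normalizer' {g x : G} (hx : x ∈ K z) (hx1 : x ≠ 1) (h : g * x * g⁻¹ ∈ K z) :
    g ∈ normalizer (K z : Set G) := d.part.mem_normalizer hx hx1 h

theorem le_normalizer_comp : K z ≤ normalizer (K z : Set G) := le_normalizer

theorem comm_mem {x c : G} (hx : x ∈ K z) (hxo : orderOf x = 2) (h : c * x = x * c) : c ∈ K z :=
  d.part.eq z x hx (CfsgLib.Invol.invol_ne_one hxo) ▸ d.iso x hxo c h

/-- Involutions of the normalizer lie in the component. -/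
theorem invol_mem {t : G} (ht : t ∈ normalizer (K z : Set G)) (hto : orderOf t = 2) : t ∈ K z := by
  by_contra htF
  let φ : K z →* K z := MonoidHom.mk' (fun x => ⟨t * x * t⁻¹, (mem_normalizer_iff.1 ht x).1 x.2⟩)
    fun a b => Subtype.ext (by simp [mul_assoc])
  have hfp : MonoidHom.FixedPointFree φ := fun x hx => by
    by_contra hx1
    have hc : (x : G) * t = t * x := (mul_inv_eq_iff_eq_mul.1 (congrArg Subtype.val hx)).symm
    have h1 := d.part.eq t x (d.iso t hto x hc) (fun e => hx1 (Subtype.ext e))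
    rw [d.part.eq z x x.2 (fun e => hx1 (Subtype.ext e))] at h1
    exact htF (h1 ▸ d.part.mem t)
  have hii : Function.Involutive φ := fun x => Subtype.ext (by
    show t * (t * x * t⁻¹) * t⁻¹ = x
    rw [CfsgLib.Invol.invol_inv hto]
    calc t * (t * (x : G) * t) * t = (t * t) * x * (t * t) := by group
      _ = x := by rw [CfsgLib.Invol.invol_mul_self hto, one_mul, mul_one])
  have h : t * z * t⁻¹ = z⁻¹ := congrArg Subtype.val (congrFun (hfp.coe_eq_inv_of_involutive hii) ⟨z, d.part.mem z⟩)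
  rw [CfsgLib.Invol.invol_inv d.invol, mul_inv_eq_iff_eq_mul] at h
  exact d.ne_one (congrArg Subtype.val (hfp ⟨z, d.part.mem z⟩ (Subtype.ext (mul_inv_eq_iff_eq_mul.2 h))))

theorem normalizer_ne_top : normalizer (K z : Set G) ≠ ⊤ := by
  intro h
  haveI : (K z).Normal := normalizer_eq_top_iff.1 h
  have dd : NComp K (K z) := ⟨d.part, fun e => d.ne_one (mem_bot.1 (e ▸ d.part.mem z)), fun x hx hx1 => d.part.eq z x hx hx1⟩
  haveI := dd.isNilpotent
  exact d.ne_one (mem_bot.1 (d.noSolv (K z) inferInstance inferInstance ▸ d.part.mem z))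

/-- The component contains a Sylow two-subgroup. -/
theorem exists_sylow : ∃ T : Sylow 2 G, (T : Subgroup G) ≤ K z := by
  haveI : Fact (Nat.Prime 2) := ⟨Nat.prime_two⟩
  obtain ⟨T, hT⟩ := IsPGroup.exists_le_sylow (p := 2) (P := zpowers z)
    (IsPGroup.of_card (n := 1) (by rw [Nat.card_zpowers, d.invol, pow_one]))
  have hzT : z ∈ (T : Subgroup G) := hT (mem_zpowers z)
  haveI : Nontrivial T := ⟨⟨z, hzT⟩, 1, fun e => d.ne_one (congrArg Subtype.val e)⟩
  haveI := T.2.center_nontrivial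
  obtain ⟨k, hk⟩ := (T.2.to_subgroup (center T)).exists_card_eq
  have hk0 : k ≠ 0 := fun e => by
    rw [e, pow_zero] at hk
    exact absurd (Finite.one_lt_card (α := center T)) (by omega)
  obtain ⟨c, hc⟩ := exists_prime_orderOf_dvd_card' (G := center T) 2 (hk ▸ dvd_pow_self 2 hk0)
  have hco : orderOf ((c : T) : G) = 2 := by rw [orderOf_coe, orderOf_coe, hc]
  have hcF : ((c : T) : G) ∈ K z := d.comm_mem (d.part.mem z) d.invol
    (congrArg Subtype.val (mem_center_iff.1 c.2 ⟨z, hzT⟩)).symm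
  exact ⟨T, fun x hx => d.comm_mem hcF hco (congrArg Subtype.val (mem_center_iff.1 c.2 ⟨x, hx⟩))⟩

theorem stronglyEmbedded : Cfsg.IsStronglyEmbedded (normalizer (K z : Set G)) := by
  refine (CfsgLib.Invol.stronglyEmbedded_iff d.normalizer_ne_top ?_).2 fun t ht hto g hg => ?_
  · rw [even_iff_two_dvd, ← d.invol]
    exact Subgroup.orderOf_dvd_natCard _ (d.le_normalizer_comp (d.part.mem z))
  · exact d.mem_normalizer' (d.invol_mem ht hto) (CfsgLib.Invol.invol_ne_one hto)
      (d.invol_mem hg (CfsgLib.Invol.invol_conj hto g))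

theorem exists_swap {g : G} (hg : g ∉ normalizer (K z : Set G)) :
    ∃ u : G, orderOf u = 2 ∧ u * g ∈ normalizer (K z : Set G) := by
  have hne : ((g : G) : G ⧸ normalizer (K z : Set G)) ≠ ((1 : G) : G ⧸ normalizer (K z : Set G)) := fun e => hg (by
    rw [QuotientGroup.eq, mul_one, inv_mem_iff] at e; exact e)
  have h := CfsgLib.Invol.card_swap_eq d.stronglyEmbedded _ _ hne
  haveI : Nonempty {t : G // orderOf t = 2 ∧ t ∈ normalizer (K z : Set G)} :=
    ⟨⟨z, d.invol, d.le_normalizer_comp (d.part.mem z)⟩⟩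
  obtain ⟨⟨u, hu, hug⟩⟩ : Nonempty {i : G // orderOf i = 2 ∧ i • ((g : G) : G ⧸ normalizer (K z : Set G)) =
      ((1 : G) : G ⧸ normalizer (K z : Set G))} := (Nat.card_pos_iff.1 (h ▸ Nat.card_pos)).1
  refine ⟨u, hu, ?_⟩
  rw [MulAction.Quotient.smul_mk, QuotientGroup.eq, mul_one, smul_eq_mul, inv_mem_iff] at hug
  exact hug

/-- Elements of the component fix one point. -/
theorem kernel_inf {g x : G} (hg : g ∉ normalizer (K z : Set G)) (hx : x ∈ K z)
    (h : g * x * g⁻¹ ∈ normalizer (K z : Set G)) : x = 1 := by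
  set M := normalizer (K z : Set G) with hM
  have hgi : g⁻¹ ∉ M := fun h' => hg (by simpa using inv_mem h')
  obtain ⟨u, hu, hum⟩ := d.exists_swap hgi
  have huu : u * u = 1 := CfsgLib.Invol.invol_mul_self hu
  have hui : u⁻¹ = u := CfsgLib.Invol.invol_inv hu
  have huM : u ∉ M := fun h' => hgi (by
    have := mul_mem (inv_mem h') hum
    rwa [inv_mul_cancel_left] at this)
  have he : u * x * u⁻¹ ∈ M := by
    have := mul_mem (mul_mem hum h) (inv_mem hum)
    rwa [show u * g⁻¹ * (g * x * g⁻¹) * (u * g⁻¹)⁻¹ = u * x * u⁻¹ by group] at this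
  set e := u * x * u⁻¹ with hedef
  have hue : u * e * u⁻¹ = x := by
    calc u * e * u⁻¹ = (u * u) * x * (u * u)⁻¹ := by rw [hedef]; group
      _ = x := by rw [huu]; group
  by_contra hx1
  have he1 : e ∉ K z := fun h' => huM (d.mem_normalizer' hx hx1 h')
  have hcomm : x * e * x⁻¹ * e⁻¹ = 1 := by
    by_contra hne
    have h1 : x * e * x⁻¹ * e⁻¹ ∈ K z := by
      rw [show x * e * x⁻¹ * e⁻¹ = x * (e * x⁻¹ * e⁻¹) by group]
      exact mul_mem hx ((mem_normalizer_iff.1 he _).1 (inv_mem hx))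
    refine huM (d.mem_normalizer' h1 hne ?_)
    have h2 : u * (x * e * x⁻¹ * e⁻¹) * u⁻¹ = e * x * e⁻¹ * x⁻¹ := by
      rw [show u * (x * e * x⁻¹ * e⁻¹) * u⁻¹ = (u * x * u⁻¹) * (u * e * u⁻¹) * (u * x * u⁻¹)⁻¹ *
        (u * e * u⁻¹)⁻¹ by group, hue, ← hedef]
    rw [h2]
    exact mul_mem ((mem_normalizer_iff.1 he x).1 hx) (inv_mem hx)
  have hxe : x * e = e * x := mul_inv_eq_iff_eq_mul.1 (mul_inv_eq_one.1 hcomm)
  set c := x * e with hc
  have hcu : c * u = u * c := by
    have : u * c * u⁻¹ = c := by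
      rw [hc, show u * (x * e) * u⁻¹ = (u * x * u⁻¹) * (u * e * u⁻¹) by group, hue, ← hedef]
      exact hxe.symm
    exact (mul_inv_eq_iff_eq_mul.1 this).symm
  have hcK : c ∈ K u := d.iso u hu c hcu
  have hc1 : c ≠ 1 := fun h' => he1 (by
    rw [hc, mul_eq_one_iff_inv_eq] at h'
    rw [← h']; exact inv_mem hx)
  have hKc : K c = K u := d.part.eq u c hcK hc1
  have hxc : x * c = c * x := by rw [hc, mul_assoc x e x, ← hxe]
  have h1 : e * x⁻¹ ∈ K u := by
    have h2 : x * u * x⁻¹ ∈ K c := d.part.conj_mem_of_comm hxc (hKc.symm ▸ d.part.mem u)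
    rw [hKc] at h2
    have h3 := mul_mem (d.part.mem u) h2
    rwa [show u * (x * u * x⁻¹) = (u * x * u⁻¹) * (u * u) * x⁻¹ by group, huu, mul_one, ← hedef] at h3
  have h4 : e * e ∈ K u := by
    have := mul_mem h1 hcK
    rwa [hc, show e * x⁻¹ * (x * e) = e * e by group] at this
  by_cases hee : e * e = 1
  · -- then `x` is an involution
    have hxo : orderOf x = 2 := orderOf_eq_prime (by
      calc x ^ 2 = u * (e * e) * u⁻¹ := by rw [sq, ← hue]; group
        _ = 1 := by rw [hee]; group) hx1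
    exact huM (d.mem_normalizer' hx hx1 (d.invol_mem he (CfsgLib.Invol.invol_conj hxo u)))
  · -- then `u` lies in a conjugate of the component
    refine huM (d.le_normalizer_comp ?_)
    have hx2 : x * x ∈ K z := mul_mem hx hx
    have hexx : e * e = u * (x * x) * u⁻¹ := by rw [hedef]; group
    have hx21 : x * x ≠ 1 := fun h' => hee (by rw [hexx, h']; group)
    have h5 : u ∈ K (u * (x * x) * u⁻¹) := by
      rw [← hexx, d.part.eq u _ h4 hee]
      exact d.part.mem u
    have h6 : u * u * u⁻¹ ∈ K (u * (x * x) * u⁻¹) := by rwa [mul_inv_cancel_right]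
    rw [d.part.conj_mem_iff, d.part.eq z _ hx2 hx21] at h6
    exact h6

/-- The component of an outside involution meets the normalizer trivially. -/
theorem comp_inf {u e : G} (hu : orderOf u = 2) (huM : u ∉ normalizer (K z : Set G))
    (he : e ∈ normalizer (K z : Set G)) (heu : e ∈ K u) : e = 1 := by
  obtain ⟨w, hw⟩ := isConj_iff.1 (CfsgLib.Invol.exists_conj_fixing d.stronglyEmbedded d.invol hu)
  have hwM : w ∉ normalizer (K z : Set G) := fun h => huM (by
    rw [← hw]
    exact mul_mem (mul_mem h (d.le_normalizer_comp (d.part.mem z))) (inv_mem h))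
  have h1 : w⁻¹ * e * w ∈ K z := by
    rw [← hw] at heu
    rw [← d.part.conj_mem_iff (g := w), show w * (w⁻¹ * e * w) * w⁻¹ = e by group]
    exact heu
  have := d.kernel_inf hwM h1 (by rwa [show w * (w⁻¹ * e * w) * w⁻¹ = e by group])
  rw [mul_eq_one_iff_eq_inv, inv_mul_eq_iff_eq_mul, mul_inv_cancel] at this
  exact this

/-- Factorization through a two-point stabilizer. -/
theorem factor (u : G) {m : G} (hm : m ∈ normalizer (K z : Set G)) :
    ∃ c, c ∈ normalizer (K z : Set G) ∧ u⁻¹ * c * u ∈ normalizer (K z : Set G) ∧ c⁻¹ * m ∈ K z := by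
  obtain ⟨c, ⟨hc, c', hc', e'⟩, e⟩ := CfsgLib.Invol.transitive_two_point d.stronglyEmbedded (u := u) d.invol
    (d.le_normalizer_comp (d.part.mem z))
    (mul_mem (mul_mem hm (d.le_normalizer_comp (d.part.mem z))) (inv_mem hm)) (CfsgLib.Invol.invol_conj d.invol m)
  refine ⟨c, hc, ?_, d.comm_mem (d.part.mem z) d.invol ?_⟩
  · rw [← e', show u⁻¹ * (MulAut.conj u).toMonoidHom c' * u = c' by
      show u⁻¹ * (u * c' * u⁻¹) * u = c'
      group]
    exact hc'
  · calc c⁻¹ * m * z = c⁻¹ * (m * z * m⁻¹) * m := by group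
      _ = z * (c⁻¹ * m) := by rw [← e]; group

theorem exists_outside : ∃ u : G, orderOf u = 2 ∧ u ∉ normalizer (K z : Set G) := by
  obtain ⟨g, hg⟩ : ∃ g : G, g ∉ normalizer (K z : Set G) := by
    by_contra h
    push Not at h
    exact d.normalizer_ne_top (eq_top_iff.2 fun g _ => h g)
  obtain ⟨u, hu, hug⟩ := d.exists_swap hg
  exact ⟨u, hu, fun h => hg (by
    have := mul_mem (inv_mem h) hug
    rwa [inv_mul_cancel_left] at this)⟩

/-- The swapping involution inverts the stabilizer of two points. -/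
theorem inverts {u c : G} (hu : orderOf u = 2) (huM : u ∉ normalizer (K z : Set G))
    (hc : c ∈ normalizer (K z : Set G)) (hcu : u * c * u⁻¹ ∈ normalizer (K z : Set G)) :
    u * c * u⁻¹ = c⁻¹ := by
  set M := normalizer (K z : Set G) with hM
  set D := M ⊓ M.comap (MulAut.conj u).toMonoidHom with hD
  have hmem : ∀ x ∈ D, u * x * u⁻¹ ∈ D := fun x hx => ⟨hx.2, by
    show u * (u * x * u⁻¹) * u⁻¹ ∈ M
    rw [CfsgLib.Invol.invol_inv hu, show u * (u * x * u) * u = (u * u) * x * (u * u) by group,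
      CfsgLib.Invol.invol_mul_self hu, one_mul, mul_one]
    exact hx.1⟩
  let φ : D →* D := MonoidHom.mk' (fun x => ⟨u * x * u⁻¹, hmem x x.2⟩) fun a b => Subtype.ext (by simp [mul_assoc])
  have hfp : MonoidHom.FixedPointFree φ := fun x hx =>
    Subtype.ext (d.comp_inf hu huM x.2.1 (d.iso u hu x (mul_inv_eq_iff_eq_mul.1 (congrArg Subtype.val hx)).symm))
  have hii : Function.Involutive φ := fun x => Subtype.ext (by
    show u * (u * x * u⁻¹) * u⁻¹ = x
    rw [CfsgLib.Invol.invol_inv hu]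
    calc u * (u * (x : G) * u) * u = (u * u) * x * (u * u) := by group
      _ = x := by rw [CfsgLib.Invol.invol_mul_self hu, one_mul, mul_one])
  exact congrArg Subtype.val (congrFun (hfp.coe_eq_inv_of_involutive hii) ⟨c, hc, hcu⟩)

/-- **The component is a Frobenius kernel of its normalizer.** -/
theorem fpf {a c : G} (ha : a ∈ normalizer (K z : Set G)) (haF : a ∉ K z) (hc : c ∈ K z) (h : c * a = a * c) :
    c = 1 := by
  by_contra hc1
  obtain ⟨hq, hoc⟩ := d.part.prime_of_comm (fun e => haF (by rw [e]; exact one_mem _)) hc1 h.symm fun e => haF (by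
    rw [← d.part.eq z c hc hc1, ← e]; exact d.part.mem a)
  set q := orderOf a with hqdef
  haveI := Fact.mk hq
  have hq2 : q ≠ 2 := fun e => haF (d.invol_mem ha e)
  obtain ⟨u, hu, huM⟩ := d.exists_outside
  obtain ⟨b, hb, hbu, hba⟩ := d.factor u ha
  have hui := CfsgLib.Invol.invol_inv hu
  have hbu' : u * b * u⁻¹ ∈ normalizer (K z : Set G) := by rwa [hui] at hbu ⊢
  have hinv := d.inverts hu huM hb hbu'
  have hbF : b ∉ K z := fun h' => haF (by
    have := mul_mem h' hba
    rwa [mul_inv_cancel_left] at this)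
  have hbq : b ^ q = 1 := by
    have hF : b ^ q ∈ K z := by
      haveI : ((K z).subgroupOf (normalizer (K z : Set G))).Normal :=
        (normal_subgroupOf_iff_le_normalizer d.le_normalizer_comp).2 le_rfl
      have h1 : ((⟨b, hb⟩ : normalizer (K z : Set G)) : _ ⧸ (K z).subgroupOf (normalizer (K z : Set G))) =
          ((⟨a, ha⟩ : normalizer (K z : Set G)) : _ ⧸ (K z).subgroupOf (normalizer (K z : Set G))) :=
        QuotientGroup.eq.2 hba
      have h2 : ((⟨b, hb⟩ : normalizer (K z : Set G)) ^ q : normalizer (K z : Set G)) ∈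
          (K z).subgroupOf (normalizer (K z : Set G)) := by
        rw [← QuotientGroup.eq_one_iff, QuotientGroup.mk_pow, h1, ← QuotientGroup.mk_pow, QuotientGroup.eq_one_iff,
          mem_subgroupOf, Subgroup.coe_pow]
        rw [hqdef, pow_orderOf_eq_one]
        exact one_mem _
      rwa [mem_subgroupOf, Subgroup.coe_pow] at h2
    refine d.kernel_inf huM hF ?_
    rw [← conj_pow]
    exact pow_mem hbu' q
  have hb1 : b ≠ 1 := fun e => hbF (e ▸ one_mem _)
  have hbo : orderOf b = q := orderOf_eq_prime hbq hb1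
  have hbp : IsPGroup q (zpowers b) := IsPGroup.of_card (n := 1) (by rw [Nat.card_zpowers, hbo, pow_one])
  let ι : zpowers b →* MulAut (K z) := (MonoidHom.mk' (fun g : normalizer (K z : Set G) => ({
    toFun := fun x => ⟨(g : G) * x * (g : G)⁻¹, (mem_normalizer_iff.1 g.2 x).1 x.2⟩
    invFun := fun x => ⟨(g : G)⁻¹ * x * g, by
      simpa using (mem_normalizer_iff.1 (inv_mem g.2) x).1 x.2⟩
    left_inv := fun x => Subtype.ext (by simp [mul_assoc])
    right_inv := fun x => Subtype.ext (by simp [mul_assoc])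
    map_mul' := fun x x' => Subtype.ext (by simp [mul_assoc]) } : MulAut (K z)))
      fun g g' => MulEquiv.ext fun x => Subtype.ext (by simp [mul_assoc])).comp (inclusion (zpowers_le.2 hb))
  letI : MulAction (zpowers b) (K z) := MulAction.compHom (K z) ι
  obtain ⟨c', hc', hne⟩ := hbp.exists_fixed_point_of_prime_dvd_card_of_fixed_point (K z)
    (hoc ▸ Subgroup.orderOf_dvd_natCard _ hc) (a := (1 : K z)) (fun g => map_one (ι g))
  have hcb : b * (c' : G) = c' * b := mul_inv_eq_iff_eq_mul.1 (congrArg Subtype.val (hc' ⟨b, mem_zpowers b⟩))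
  have hc'1 : (c' : G) ≠ 1 := fun e => hne (Subtype.ext e.symm)
  set C := centralizer ({b} : Set G) with hC
  have hmem : ∀ x ∈ C, u * x * u⁻¹ ∈ C := fun x hx => by
    have h1 := mem_centralizer_singleton_iff.1 hx
    refine mem_centralizer_singleton_iff.2 ?_
    have h2 : u * b⁻¹ * u⁻¹ = b := by
      rw [show u * b⁻¹ * u⁻¹ = (u * b * u⁻¹)⁻¹ by group, hinv, inv_inv]
    have h3 : x * b⁻¹ = b⁻¹ * x := ((show Commute x b from h1).inv_right).eq
    calc u * x * u⁻¹ * b = u * (x * b⁻¹) * u⁻¹ := by conv_lhs => rw [← h2]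
                                                     group
      _ = u * (b⁻¹ * x) * u⁻¹ := by rw [h3]
      _ = b * (u * x * u⁻¹) := by conv_rhs => rw [← h2]
                                  group
  let φ : C →* C := MonoidHom.mk' (fun x => ⟨u * x * u⁻¹, hmem x x.2⟩) fun a b => Subtype.ext (by simp [mul_assoc])
  have hfp : MonoidHom.FixedPointFree φ := fun x hx => by
    by_contra hx1
    have hx1' : (x : G) ≠ 1 := fun e => hx1 (Subtype.ext e)
    have hKx : K (x : G) = K u :=
      d.part.eq u _ (d.iso u hu x (mul_inv_eq_iff_eq_mul.1 (congrArg Subtype.val hx)).symm) hx1'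
    have h1 : b * u * b⁻¹ ∈ K (x : G) :=
      d.part.conj_mem_of_comm (mem_centralizer_singleton_iff.1 x.2).symm (hKx.symm ▸ d.part.mem u)
    rw [hKx] at h1
    have h2 : b * b ∈ K u := by
      have h3 := mul_mem h1 (inv_mem (d.part.mem u))
      rwa [show b * u * b⁻¹ * u⁻¹ = b * (u * b * u⁻¹)⁻¹ by group, hinv, inv_inv] at h3
    have h4 := d.comp_inf hu huM (mul_mem hb hb) h2
    exact hb1 (CfsgLib.Invol.eq_one_of_odd_of_mul_self (hbo ▸ hq.odd_of_ne_two hq2) h4)
  have hii : Function.Involutive φ := fun x => Subtype.ext (by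
    show u * (u * x * u⁻¹) * u⁻¹ = x
    rw [CfsgLib.Invol.invol_inv hu]
    calc u * (u * (x : G) * u) * u = (u * u) * x * (u * u) := by group
      _ = x := by rw [CfsgLib.Invol.invol_mul_self hu, one_mul, mul_one])
  have h5 : u * c' * u⁻¹ = (c' : G)⁻¹ := congrArg Subtype.val
    (congrFun (hfp.coe_eq_inv_of_involutive hii) ⟨c', mem_centralizer_singleton_iff.2 hcb.symm⟩)
  exact huM (d.mem_normalizer' c'.2 hc'1 (h5 ▸ inv_mem c'.2))

/-- Two different involutions in the component. -/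
theorem exists_two : ∃ s t : G, s ∈ K z ∧ t ∈ K z ∧ orderOf s = 2 ∧ orderOf t = 2 ∧ s * t = t * s ∧ s ≠ t := by
  haveI : Fact (Nat.Prime 2) := ⟨Nat.prime_two⟩
  obtain ⟨T, hT⟩ := d.exists_sylow
  have hne : (T : Subgroup G) ≠ ⊥ := T.ne_bot_of_dvd_card (d.invol ▸ orderOf_dvd_natCard z)
  haveI : Nontrivial T := (nontrivial_iff_ne_bot _).2 hne
  haveI := T.2.center_nontrivial
  obtain ⟨k, hk⟩ := (T.2.to_subgroup (center T)).exists_card_eq
  have hk0 : k ≠ 0 := fun e => by
    rw [e, pow_zero] at hk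
    exact absurd (Finite.one_lt_card (α := center T)) (by omega)
  obtain ⟨c, hc⟩ := exists_prime_orderOf_dvd_card' (G := center T) 2 (hk ▸ dvd_pow_self 2 hk0)
  have hco : orderOf ((c : T) : G) = 2 := by rw [orderOf_coe, orderOf_coe, hc]
  set s := ((c : T) : G) with hs
  by_cases h : ∀ x ∈ (T : Subgroup G), orderOf x = 2 → x = s
  · exfalso
    have hz := CfsgLib.Invol.zcentral_of_unique_invol T hco h
    have hO : Cfsg.pPrimeCore 2 G = ⊥ := by
      haveI := CfsgLib.Coprime.pPrimeCore_characteristic (G := G) 2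
      exact d.noSolv _ inferInstance (CfsgLib.FrobSystem.isSolvable_subgroup_of_odd
        (Nat.odd_iff.2 (Nat.two_dvd_ne_zero.1 (CfsgLib.Coprime.pPrimeCore_not_dvd Nat.prime_two))))
    have hcomm : ∀ g : G, s * g = g * s := fun g => by
      have h1 := hz g
      rw [hO, mem_bot, mul_inv_eq_one] at h1
      exact mul_inv_eq_iff_eq_mul.1 h1
    haveI : (zpowers s).Normal := ⟨fun x hx g => by
      obtain ⟨i, rfl⟩ := hx
      rw [((Commute.zpow_left (hcomm g) i : Commute (s ^ i) g)).eq.symm, mul_inv_cancel_right]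
      exact ⟨i, rfl⟩⟩
    haveI : IsMulCommutative (zpowers s) := inferInstance
    have h2 := d.noSolv (zpowers s) inferInstance inferInstance
    rw [zpowers_eq_bot] at h2
    exact CfsgLib.Invol.invol_ne_one hco h2
  · push Not at h
    obtain ⟨x, hx, hxo, hxs⟩ := h
    exact ⟨s, x, hT (c : T).2, hT hx, hco, hxo,
      (congrArg Subtype.val (mem_center_iff.1 c.2 ⟨x, hx⟩)).symm, hxs.symm⟩

theorem isNilpotent : Group.IsNilpotent (K z) := by
  obtain ⟨s, t, hs, ht, hso, hto, -, hst⟩ := d.exists_two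
  obtain ⟨u, hu, huM⟩ := d.exists_outside
  obtain ⟨m, hm⟩ := isConj_iff.1 (CfsgLib.Invol.exists_conj_fixing d.stronglyEmbedded hso hto)
  have hmM : m ∈ normalizer (K z : Set G) :=
    d.mem_normalizer' hs (CfsgLib.Invol.invol_ne_one hso) (hm ▸ ht)
  obtain ⟨b, ⟨hb, b', hb', e'⟩, hbst⟩ := CfsgLib.Invol.transitive_two_point d.stronglyEmbedded (u := u) hso
    (d.le_normalizer_comp hs) (d.le_normalizer_comp ht) hto
  have hub : u * b * u⁻¹ ∈ normalizer (K z : Set G) := by
    rw [← e', show u * (MulAut.conj u).toMonoidHom b' * u⁻¹ = (u * u) * b' * (u * u)⁻¹ by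
      show u * (u * b' * u⁻¹) * u⁻¹ = _
      group, CfsgLib.Invol.invol_mul_self hu, one_mul, inv_one, mul_one]
    exact hb'
  have hb1 : b ≠ 1 := fun e => hst (by rw [← hbst, e]; group)
  have hbF : b ∉ K z := fun h => hb1 (d.kernel_inf huM h hub)
  obtain ⟨p, hp, hpd⟩ := Nat.exists_prime_and_dvd (mt orderOf_eq_one_iff.1 hb1)
  set a := b ^ (orderOf b / p) with hadef
  have hao : orderOf a = p := orderOf_pow_orderOf_div (orderOf_pos b).ne' hpd
  have haM : a ∈ normalizer (K z : Set G) := pow_mem hb _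
  have haF : a ∉ K z := fun h => hp.ne_one (by
    have := d.kernel_inf huM h (by rw [hadef, ← conj_pow]; exact pow_mem hub _)
    rw [← hao, this, orderOf_one])
  haveI : ((K z).subgroupOf (normalizer (K z : Set G))).Normal :=
    (normal_subgroupOf_iff_le_normalizer d.le_normalizer_comp).2 le_rfl
  set L := K z ⊔ zpowers a with hL
  have hLn : L ≤ normalizer (K z : Set G) := sup_le d.le_normalizer_comp (zpowers_le.2 haM)
  haveI : ((K z).subgroupOf L).Normal :=
    (normal_subgroupOf_iff_le_normalizer le_sup_left).2 hLn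
  have hSP : CfsgLib.PGroup.SplitPair ((K z).subgroupOf L) (⟨a, mem_sup_right (mem_zpowers a)⟩ : L) p := by
    refine ⟨inferInstance, fun h => haF h, ?_, fun x hx => Subtype.ext ?_⟩
    · apply Subgroup.map_injective L.subtype_injective
      rw [Subgroup.map_sup, subgroupOf_map_subtype, inf_eq_left.2 le_sup_left, MonoidHom.map_zpowers,
        ← MonoidHom.range_eq_map, range_subtype]
      rfl
    · show ((x : G) * a) ^ p = 1
      have hxF : (x : G) ∈ K z := hx
      have hxa : (x : G) * a ∈ normalizer (K z : Set G) := mul_mem (d.le_normalizer_comp hxF) haM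
      have hxaF : (x : G) * a ∉ K z := fun h => haF (by
        have := mul_mem (inv_mem hxF) h
        rwa [inv_mul_cancel_left] at this)
      refine d.fpf hxa hxaF ?_ ((Commute.refl ((x : G) * a)).pow_left p).eq
      let g1 : normalizer (K z : Set G) := ⟨(x : G) * a, hxa⟩
      let g2 : normalizer (K z : Set G) := ⟨a, haM⟩
      have h1 : (g1 : normalizer (K z : Set G) ⧸ (K z).subgroupOf (normalizer (K z : Set G))) = g2 := by
        refine QuotientGroup.eq.2 ?_
        show ((x : G) * a)⁻¹ * a ∈ K z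
        rw [mul_inv_rev, mul_assoc]
        have := (mem_normalizer_iff.1 (inv_mem haM) _).1 (inv_mem hxF)
        rwa [inv_inv, mul_assoc] at this
      have h2 : g1 ^ p ∈ (K z).subgroupOf (normalizer (K z : Set G)) := by
        rw [← QuotientGroup.eq_one_iff, QuotientGroup.mk_pow, h1, ← QuotientGroup.mk_pow, QuotientGroup.eq_one_iff,
          mem_subgroupOf, Subgroup.coe_pow]
        show a ^ p ∈ K z
        rw [← hao, pow_orderOf_eq_one]
        exact one_mem _
      rw [mem_subgroupOf, Subgroup.coe_pow] at h2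
      exact h2
  haveI := CfsgLib.PGroup.SplitPair.isNilpotent hp hSP
  exact Group.nilpotent_of_mulEquiv (subgroupOfEquivOfLe (le_sup_left : K z ≤ L))

theorem isSolvable_normalizer : Group.IsSolvable (normalizer (K z : Set G)) := by
  set M := normalizer (K z : Set G) with hM
  haveI := d.isNilpotent
  obtain ⟨u, hu, huM⟩ := d.exists_outside
  haveI : ((K z).subgroupOf M).Normal := (normal_subgroupOf_iff_le_normalizer d.le_normalizer_comp).2 le_rfl
  haveI : Group.IsSolvable ((K z).subgroupOf M) :=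
    Group.isSolvable_of_surjective (subgroupOfEquivOfLe (d.le_normalizer_comp)).symm.surjective
      (f := (subgroupOfEquivOfLe (d.le_normalizer_comp)).symm.toMonoidHom)
  set D := M ⊓ M.comap (MulAut.conj u).toMonoidHom with hD
  have hinv : ∀ x ∈ D, u * x * u⁻¹ = x⁻¹ := fun x hx => d.inverts hu huM hx.1 hx.2
  haveI : IsMulCommutative D := ⟨⟨fun x y => Subtype.ext (by
    have h1 := hinv _ (mul_mem x.2 y.2)
    rw [show u * ((x : G) * y) * u⁻¹ = (u * x * u⁻¹) * (u * y * u⁻¹) by group, hinv x x.2, hinv y y.2,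
      ← mul_inv_rev, inv_inj] at h1
    exact h1.symm)⟩⟩
  haveI : Group.IsSolvable D := Group.isSolvable_of_comm fun a b => (IsMulCommutative.is_comm (M := D)).comm a b
  haveI : Group.IsSolvable (M ⧸ (K z).subgroupOf M) := by
    refine Group.isSolvable_of_surjective
      (f := (QuotientGroup.mk' ((K z).subgroupOf M)).comp (inclusion (inf_le_left : D ≤ M))) fun w => ?_
    obtain ⟨⟨m, hm⟩, rfl⟩ := QuotientGroup.mk_surjective w
    obtain ⟨c, hc, hcu, hcm⟩ := d.factor u hm
    refine ⟨⟨c, hc, ?_⟩, QuotientGroup.eq.2 hcm⟩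
    show u * c * u⁻¹ ∈ M
    rwa [CfsgLib.Invol.invol_inv hu] at hcu ⊢
  exact Group.isSolvable_of_ker_le_range ((K z).subgroupOf M).subtype (QuotientGroup.mk' ((K z).subgroupOf M)) (by simp)

theorem maximal (M' : Subgroup G) (hlt : normalizer (K z : Set G) < M') : ¬ Group.IsSolvable M' := by
  intro hs
  obtain ⟨g, hgM', hgM⟩ := SetLike.exists_of_lt hlt
  haveI : Group.IsSolvable (⊤ : Subgroup M') := CfsgLib.Coprime.isSolvable_of_le (le_refl _)
    (Group.isSolvable_of_surjective (f := (Subgroup.topEquiv (G := M')).symm.toMonoidHom)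
      Subgroup.topEquiv.symm.surjective)
  have hzM' : z ∈ M' := hlt.le (d.le_normalizer_comp (d.part.mem z))
  haveI : Nontrivial M' := ⟨⟨z, hzM'⟩, 1, fun e => d.ne_one (congrArg Subtype.val e)⟩
  obtain ⟨R', hR', hR'ne, -, hmin⟩ := CfsgLib.Coprime.exists_minimal_normal_le (N := (⊤ : Subgroup M')) top_ne_bot
  haveI := hR'
  haveI : Group.IsSolvable R' := CfsgLib.Coprime.isSolvable_of_le le_top inferInstance
  obtain ⟨hcomm, -⟩ := CfsgLib.Coprime.minimal_normal_solvable hR'ne hmin
  set R := R'.map M'.subtype with hR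
  have hconj : ∀ x ∈ R, ∀ h ∈ M', h * x * h⁻¹ ∈ R := by
    rintro _ ⟨x, hx, rfl⟩ h hh
    exact ⟨⟨h, hh⟩ * x * ⟨h, hh⟩⁻¹, hR'.conj_mem x hx _, rfl⟩
  have hRcomm : ∀ x ∈ R, ∀ y ∈ R, x * y = y * x := by
    rintro _ ⟨x, hx, rfl⟩ _ ⟨y, hy, rfl⟩
    exact congrArg Subtype.val (hcomm x hx y hy)
  have hRF : ∀ x ∈ R, x ∈ K z → x = 1 := by
    intro x hx hxF
    by_contra hx1
    refine hx1 (d.kernel_inf hgM hxF ?_)
    have hy := hconj x hx g hgM'
    exact d.mem_normalizer' hxF hx1 (by rw [hRcomm _ hy x hx, mul_inv_cancel_right]; exact hxF)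
  have hRM : ∀ x ∈ R, x ∈ normalizer (K z : Set G) → x = 1 := by
    intro x hx hxM
    refine hRF x hx (d.comm_mem (d.part.mem z) d.invol ?_)
    have h1 : z * x * z⁻¹ * x⁻¹ = 1 := by
      refine hRF _ (mul_mem (hconj x hx z hzM') (inv_mem hx)) ?_
      rw [show z * x * z⁻¹ * x⁻¹ = z * (x * z⁻¹ * x⁻¹) by group]
      exact mul_mem (d.part.mem z) ((mem_normalizer_iff.1 hxM _).1 (inv_mem (d.part.mem z)))
    exact (mul_inv_eq_iff_eq_mul.1 (mul_inv_eq_one.1 h1)).symm
  have hinv : ∀ s ∈ K z, orderOf s = 2 → ∀ r ∈ R, s * r * s⁻¹ = r⁻¹ := by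
    intro s hs hso r hr
    let φ : R →* R := MonoidHom.mk' (fun x => ⟨s * x * s⁻¹, hconj x x.2 s (hlt.le (d.le_normalizer_comp hs))⟩)
      fun a b => Subtype.ext (by simp [mul_assoc])
    have hfp : MonoidHom.FixedPointFree φ := fun x hx => Subtype.ext (hRM x x.2 (d.le_normalizer_comp
      (d.comm_mem hs hso (mul_inv_eq_iff_eq_mul.1 (congrArg Subtype.val hx)).symm)))
    have hii : Function.Involutive φ := fun x => Subtype.ext (by
      show s * (s * x * s⁻¹) * s⁻¹ = x
      rw [CfsgLib.Invol.invol_inv hso]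
      calc s * (s * (x : G) * s) * s = (s * s) * x * (s * s) := by group
        _ = x := by rw [CfsgLib.Invol.invol_mul_self hso, one_mul, mul_one])
    exact congrArg Subtype.val (congrFun (hfp.coe_eq_inv_of_involutive hii) ⟨r, hr⟩)
  obtain ⟨s, t, hs, ht, hso, hto, hst, hne⟩ := d.exists_two
  refine hR'ne ((eq_bot_iff_forall _).2 fun x hx => Subtype.ext ?_)
  have hxR : (x : G) ∈ R := ⟨x, hx, rfl⟩
  have hsto : orderOf (s * t) = 2 := orderOf_eq_prime (by
    rw [(show Commute s t from hst).mul_pow, orderOf_dvd_iff_pow_eq_one.1 hso.dvd,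
      orderOf_dvd_iff_pow_eq_one.1 hto.dvd, one_mul])
    fun e => hne ((mul_eq_one_iff_eq_inv.1 e).trans (CfsgLib.Invol.invol_inv hto))
  have h1 := hinv _ (mul_mem hs ht) hsto _ hxR
  rw [show s * t * (x : G) * (s * t)⁻¹ = s * (t * x * t⁻¹) * s⁻¹ by group, hinv t ht hto _ hxR,
    hinv s hs hso _ (inv_mem hxR), inv_inv] at h1
  -- so `x` is fixed by `s`
  have h2 := hinv s hs hso _ hxR
  rw [← h1] at h2
  exact hRM _ hxR (d.le_normalizer_comp (d.comm_mem hs hso (mul_inv_eq_iff_eq_mul.1 h2).symm))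

/-- **The TI case**: `SL(2, 2ⁿ)` or a Suzuki group. -/
theorem psl_or_suzuki : (∃ (F : Type) (_ : Field F) (_ : Fintype F), 4 ≤ Fintype.card F ∧
      Nonempty (G ≃* Matrix.ProjectiveSpecialLinearGroup (Fin 2) F)) ∨ Cfsg.Lie.IsoSuzuki G := by
  obtain ⟨T, hT⟩ := d.exists_sylow
  have hns : ¬ Group.IsSolvable G := fun h => d.ne_one (by
    haveI := h
    have h1 := d.noSolv ⊤ inferInstance inferInstance
    exact mem_bot.1 (h1 ▸ mem_top z))
  have hpart : CfsgLib.FrobSystem.IsPart (normalizer (K z : Set G)) (K z) :=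
    { solv := d.isSolvable_normalizer
      top := d.maximal
      le := d.le_normalizer_comp
      norm := le_rfl
      fpf := fun a ha haF x hx h => d.fpf ha haF hx h
      ti := fun g hg x hx hgx => by_contra fun hx1 => hg (d.mem_normalizer' hx hx1 hgx)
      ne := fun e => d.ne_one (mem_bot.1 (e ▸ d.part.mem z))
      nsolv := hns }
  have heven : CfsgLib.FrobSystem.EvenPart (normalizer (K z : Set G)) (K z) T :=
    ⟨hpart, hT.trans d.le_normalizer_comp, d.invol ▸ orderOf_dvd_natCard z⟩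
  rcases heven.sl_or_isoSuzuki with ⟨F, i1, i2, ⟨n, hn, hF⟩, ⟨e⟩⟩ | h
  · haveI : CharP F 2 := CfsgLib.Classical.PSL2Spectrum.char_two_of_dvd (hF ▸ dvd_pow_self 2 (by omega))
    obtain ⟨e'⟩ := CfsgLib.CIT.sl_two_equiv_psl (K := F)
    refine Or.inl ⟨F, i1, i2, ?_, ⟨e.trans e'⟩⟩
    rw [hF]
    calc 4 = 2 ^ 2 := rfl
      _ ≤ 2 ^ n := Nat.pow_le_pow_right two_pos hn
  · exact Or.inr h

end Iso

/-- **Suzuki's theorem**: groups with a partition and no solvable normal subgroup. -/
theorem semisimple {K : G → Subgroup G} (hK : IsPart K)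
    (hR : ∀ R : Subgroup G, R.Normal → Group.IsSolvable R → R = ⊥)
    (hgw : CfsgLib.GW.GWBelow.{u} (Nat.card G)) [Nontrivial G] :
    (∃ (F : Type) (_ : Field F) (_ : Fintype F), 4 ≤ Fintype.card F ∧
        Nonempty (G ≃* Matrix.ProjectiveSpecialLinearGroup (Fin 2) F)) ∨
    (∃ (F : Type) (_ : Field F) (_ : Fintype F), 5 ≤ Fintype.card F ∧ Odd (Fintype.card F) ∧
        Nonempty (G ≃* (GL (Fin 2) F ⧸ Subgroup.center (GL (Fin 2) F)))) ∨
    Cfsg.Lie.IsoSuzuki G := by
  classical
  haveI : Fact (Nat.Prime 2) := ⟨Nat.prime_two⟩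
  have hns : ¬ Group.IsSolvable G := fun h => by
    haveI := h
    exact (top_ne_bot : (⊤ : Subgroup G) ≠ ⊥) (hR ⊤ inferInstance inferInstance)
  have h2 : 2 ∣ Nat.card G := CfsgLib.CIT.two_dvd_card_of_nsolv hns
  by_cases hiso : ∀ t : G, orderOf t = 2 → ∀ x : G, x * t = t * x → x ∈ K t
  · obtain ⟨z, hz⟩ := exists_prime_orderOf_dvd_card' (G := G) 2 h2
    rcases (Iso.psl_or_suzuki (z := z) ⟨hK, hR, hiso, hz⟩) with h | h
    · exact Or.inl h
    · exact Or.inr (Or.inr h)
  push Not at hiso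
  haveI : Nonempty {t : G // orderOf t = 2 ∧ ∃ x, x * t = t * x ∧ x ∉ K t} := by
    obtain ⟨t, ht, x, hx, hxK⟩ := hiso
    exact ⟨⟨t, ht, x, hx, hxK⟩⟩
  obtain ⟨⟨t, ht, x, hxt, hxK⟩, hmax⟩ := Finite.exists_max
    (fun t : {t : G // orderOf t = 2 ∧ ∃ x, x * t = t * x ∧ x ∉ K t} => Nat.card (centralizer ({(t : G)} : Set G)))
  set H := centralizer ({t} : Set G) with hH
  have htH : t ∈ H := mem_centralizer_singleton_iff.2 rfl
  have hxH : x ∈ H := mem_centralizer_singleton_iff.2 hxt
  have hsq : ∀ y ∈ H, y ∉ H ⊓ K t → y ^ 2 = 1 := by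
    intro y hy hyA
    have hyK : y ∉ K t := fun h => hyA ⟨hy, h⟩
    have ho : orderOf t = orderOf y := by
      by_contra hne
      exact hyK (hK.mem_of_comm (CfsgLib.Invol.invol_ne_one ht) (mem_centralizer_singleton_iff.1 hy).symm hne)
    exact orderOf_dvd_iff_pow_eq_one.1 (ho.symm.trans ht).dvd
  have hAH : H ⊓ K t < H := lt_of_le_of_ne inf_le_left fun e => hxK ((e.ge hxH).2)
  have hxo : orderOf x = 2 := orderOf_eq_prime (hsq x hxH fun h => hxK h.2) fun e => hxK (e ▸ one_mem _)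
  have h4 : 4 ∣ Nat.card H := by
    have htx : t ∉ zpowers x := fun h => by
      obtain ⟨i, rfl⟩ := h
      exact hxK ((hK.eq x _ (zpow_mem (hK.mem x) i) (CfsgLib.Invol.invol_ne_one ht)).symm ▸ hK.mem x)
    have hd : Disjoint (zpowers t) (zpowers x) := by
      rw [disjoint_iff, eq_bot_iff]
      rintro y ⟨h1, h3⟩
      rw [mem_bot]
      by_contra hy
      refine hxK ((hK.eq t y (zpowers_le.2 (hK.mem t) h1) hy) ▸ ?_)
      rw [hK.eq x y (zpowers_le.2 (hK.mem x) h3) hy]
      exact hK.mem x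
    let f : zpowers t × zpowers x → H := fun q => ⟨(q.1 : G) * q.2, mul_mem (zpowers_le.2 htH q.1.2) (zpowers_le.2 hxH q.2.2)⟩
    have hf : Function.Injective f := fun a b e =>
      (Subgroup.mul_injective_of_disjoint hd) (congrArg Subtype.val e)
    have hsub : Nat.card (zpowers t × zpowers x) ∣ Nat.card H := by
      have hc : Commute t x := (show Commute x t from hxt).symm
      let g : zpowers t × zpowers x →* H := MonoidHom.mk' f fun a b => Subtype.ext (by
        obtain ⟨i, hi⟩ := b.1.2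
        obtain ⟨j, hj⟩ := a.2.2
        show (a.1 : G) * b.1 * ((a.2 : G) * b.2) = a.1 * a.2 * ((b.1 : G) * b.2)
        have h5 : (b.1 : G) * a.2 = a.2 * b.1 := by
          rw [← hi, ← hj]; exact (hc.zpow_zpow i j).eq
        calc (a.1 : G) * b.1 * ((a.2 : G) * b.2) = a.1 * ((b.1 : G) * a.2) * b.2 := by group
          _ = _ := by rw [h5]; group)
      exact Subgroup.card_dvd_of_injective g hf
    rwa [Nat.card_prod, Nat.card_zpowers, Nat.card_zpowers, ht, hxo] at hsub
  have hC : ∀ j ∈ H, orderOf j = 2 → (∀ h ∈ H, h * j = j * h) → centralizer ({j} : Set G) = H := by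
    intro j hjH hjo hj
    have hle : H ≤ centralizer ({j} : Set G) := fun h hh => mem_centralizer_singleton_iff.2 (hj h hh)
    by_cases hjK : ∀ y : G, y * j = j * y → y ∈ K j
    · exfalso
      have h1 := hjK t (hj t htH)
      have h3 := hjK x (hj x hxH)
      exact hxK (hK.eq j t h1 (CfsgLib.Invol.invol_ne_one ht) ▸ h3)
    · push Not at hjK
      obtain ⟨y, hy, hyK⟩ := hjK
      exact (Subgroup.eq_of_le_of_card_ge hle (hmax ⟨j, hjo, y, hy, hyK⟩)).symm
  obtain ⟨N, hN, hcard, F, i1, i2, hF3, hiso'⟩ := CfsgLib.GW.DGroup.hasQuot hAH hsq h4 hC hgw hns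
  haveI := hN
  have hNbot : N = ⊥ := by
    refine hR N hN ?_
    rcases hcard with h | ⟨m, hm, hNm⟩
    · exact CfsgLib.FrobSystem.isSolvable_subgroup_of_odd h
    · obtain ⟨T⟩ : Nonempty (Sylow 2 N) := inferInstance
      refine CfsgLib.FrobSystem.isSolvable_of_complement
        (CfsgLib.Invol.hasNormalPComplement_two_of_isCyclic T (isCyclic_of_prime_card (p := 2) ?_))
      rw [T.card_eq_multiplicity, hNm, Nat.factorization_mul two_ne_zero hm.pos.ne', Finsupp.add_apply,
        Nat.prime_two.factorization_self, Nat.factorization_eq_zero_of_not_dvd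
        (Nat.two_dvd_ne_zero.2 (Nat.odd_iff.1 hm)), add_zero, pow_one]
  have e0 : G ≃* G ⧸ N := ((QuotientGroup.quotientMulEquivOfEq hNbot).trans QuotientGroup.quotientBot).symm
  rcases hiso' with ⟨⟨e⟩⟩ | ⟨⟨e⟩⟩
  · exact Or.inl ⟨F, i1, i2, by omega, ⟨e0.trans e⟩⟩
  by_cases hodd : Odd (Fintype.card F)
  · refine Or.inr (Or.inl ⟨F, i1, i2, ?_, hodd, ⟨e0.trans e⟩⟩)
    obtain ⟨k, hk⟩ := hodd
    omega
  · obtain ⟨p, n, hp, hn, hF⟩ : ∃ p n, p.Prime ∧ 1 ≤ n ∧ Fintype.card F = p ^ n := by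
      obtain ⟨p, _⟩ := CharP.exists F
      haveI := Fact.mk (CharP.char_is_prime F p)
      obtain ⟨n, hp, hn⟩ := FiniteField.card F p
      exact ⟨p, n, hp, n.2, hn⟩
    have hp2 : p = 2 := by
      by_contra hp2
      exact hodd (hF ▸ (hp.odd_of_ne_two hp2).pow)
    subst hp2
    obtain ⟨e'⟩ := CfsgLib.Char.SuzZ.nonempty_psl_equiv hn hF
    exact Or.inl ⟨F, i1, i2, by omega, ⟨(e0.trans e).trans e'⟩⟩

end CfsgLib.Partition
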