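import Cfsg.Agent.Lib.Partition.Spread

/-!
# An abelian minimal normal subgroup spread over several components: conclusion
-/

set_option autoImplicit false
set_option linter.style.haveILetI false
set_option linter.unusedSectionVars false

namespace CfsgLib.Partition

open Subgroup
open scoped IsMulCommutative

universe u

variable {G : Type u} [Group G] [Finite G]

namespace Spread

variable {K : G → Subgroup G} {N : Subgroup G} [hNn : N.Normal] {p : ℕ} (d : Spread K N p)
include d

theorem comm' : IsMulCommutative N := ⟨⟨fun a b => Subtype.ext (d.comm a a.2 b b.2)⟩⟩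

/-- An element of prime order `≠ p` of the quotient lifts to one of the same order. -/
theorem exists_lift {r : ℕ} (hr : r.Prime) (hrp : r ≠ p) {u : G ⧸ centralizer (N : Set G)} (hu : orderOf u = r) :
    ∃ y : G, (y : G ⧸ centralizer (N : Set G)) = u ∧ orderOf y = r := by
  haveI := Fact.mk hr
  obtain ⟨x, rfl⟩ := QuotientGroup.mk_surjective u
  have hxr : x ^ r ∈ centralizer (N : Set G) := by
    rw [← QuotientGroup.eq_one_iff, QuotientGroup.mk_pow, ← hu, pow_orderOf_eq_one]
  obtain ⟨m, hm⟩ := Nat.exists_mul_mod_eq_one_of_coprime ((Nat.coprime_primes d.prime hr).2 hrp.symm) hr.one_lt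
  have hyu : ((x ^ (p * m) : G) : G ⧸ centralizer (N : Set G)) = x := by
    rw [QuotientGroup.mk_pow, ← pow_mod_orderOf, hu, hm.2, pow_one]
  refine ⟨x ^ (p * m), hyu, orderOf_eq_prime ?_ fun e => hr.ne_one ?_⟩
  · rw [← pow_mul, show p * m * r = (r * p) * m by ring, pow_mul, pow_mul, d.pow_eq_one hxr, one_pow]
  · rw [← hu, ← hyu, e, QuotientGroup.mk_one, orderOf_one]

theorem isPGroup_of_pow {g : G} (hg : g ^ p ∈ centralizer (N : Set G)) : IsPGroup p (zpowers g) := by
  obtain ⟨i, -, hi⟩ := (Nat.dvd_prime_pow d.prime).1 (orderOf_dvd_of_pow_eq_one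
    (show g ^ (p ^ 2) = 1 by rw [sq, pow_mul]; exact d.pow_eq_one hg))
  exact IsPGroup.of_card (n := i) (by rw [Nat.card_zpowers, hi])

/-- Norms of elements of prime order `≠ p` vanish. -/
theorem nrm_eq_one (V : Subgroup G) [V.Normal] [IsMulCommutative V] (hVP : V ≤ centralizer (N : Set G))
    (hPV : centralizer (N : Set G) ≤ centralizer (V : Set G))
    {g : G} (hg : g ∉ centralizer (N : Set G)) {m : ℕ} (hm : m.Prime) (hmp : m ≠ p)
    (hgm : g ^ m ∈ centralizer (N : Set G)) (v : V) : nrm V g m v = 1 := by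
  refine nrm_eq_one_of_fpf V g m (hPV hgm) (fun w hw => ?_) v
  have h1 : (g ^ p) ^ m = 1 := by rw [← pow_mul, mul_comm, pow_mul]; exact d.pow_eq_one hgm
  refine Subtype.ext (d.fpf (hVP w.2) (y := g ^ p) (fun e => hg ?_) ?_ ((show Commute (w : G) g from hw).pow_right p).eq)
  · rw [← QuotientGroup.eq_one_iff, ← orderOf_eq_one_iff]
    refine Nat.eq_one_of_dvd_coprimes ((Nat.coprime_primes hm d.prime).2 hmp) ?_ ?_ <;>
      refine orderOf_dvd_of_pow_eq_one ?_ <;> rw [← QuotientGroup.mk_pow]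
    · exact (QuotientGroup.eq_one_iff _).2 hgm
    · rw [e, QuotientGroup.mk_one]
  · exact Nat.Coprime.coprime_dvd_left (orderOf_dvd_of_pow_eq_one h1) ((Nat.coprime_primes hm d.prime).2 hmp)

theorem eq_one_of_pow {r : ℕ} (hr : r.Prime) (hrp : r ≠ p) {v : N} (h : v ^ r = 1) : v = 1 :=
  Subtype.ext (orderOf_eq_one_iff.1 (Nat.eq_one_of_dvd_coprimes ((Nat.coprime_primes hr d.prime).2 hrp)
    (orderOf_dvd_of_pow_eq_one (congrArg Subtype.val h)) (orderOf_dvd_of_pow_eq_one (d.exp v v.2))))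

/-- For odd `p` the quotient satisfies the hypotheses of the quotient step. -/
theorem qhyp (hp : p ≠ 2) : QHyp (G ⧸ centralizer (N : Set G)) p := by
  haveI := d.comm'
  haveI := Fact.mk d.prime
  obtain ⟨⟨v, hv⟩, hv1⟩ := Subgroup.ne_bot_iff_exists_ne_one.1 d.ne_bot
  have hnrm : ∀ g : G, g ∉ centralizer (N : Set G) → ∀ m : ℕ, m.Prime → g ^ m ∈ centralizer (N : Set G) →
      ∀ w : N, nrm N g m w = 1 := by
    intro g hg m hm hgm w
    by_cases hmp : m = p
    · subst hmp
      by_contra hne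
      exact hp (d.transvection N le_rfl d.le_centralizer hgm ⟨w, hne⟩).1
    · exact d.nrm_eq_one N d.le_centralizer le_rfl hg hm hmp hgm w
  have hsemi : ∀ {u w : G ⧸ centralizer (N : Set G)} {r n k : ℕ}, r.Prime → n.Prime → r ≠ p → orderOf u = r →
      orderOf w = n → w * u = u ^ k * w → (k % r = 1 ∧ n = r ∧ w ∉ zpowers u) ∨ k % r ≠ 1 → False :=
    fun hr hn hrp hu hw hk hc =>
      hv1 (d.eq_one_of_pow hr hrp (pow_eq_one_of_semi N (centralizer (N : Set G)) le_rfl hnrm hr hn hu hw hk hc ⟨v, hv⟩))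
  refine ⟨fun a u r ha hr hrp hu hmem => ?_, fun u w r hr hrp hu hw h => ?_, fun h2 => absurd h2 hp⟩
  · obtain ⟨k, hk⟩ := (IsOfFinOrder.mem_powers_iff_mem_zpowers (isOfFinOrder_of_finite u)).2 hmem
    have hk' : a * u = u ^ k * a := mul_inv_eq_iff_eq_mul.1 hk.symm
    by_cases h1 : k % r = 1
    · rw [← pow_mod_orderOf, hu, h1, pow_one] at hk'
      obtain ⟨x, hx⟩ := QuotientGroup.mk_surjective (a * u)
      have ho : orderOf (a * u) = p * r := by
        rw [(show Commute a u from hk').orderOf_mul_eq_mul_orderOf_of_coprime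
          (by rw [ha, hu]; exact (Nat.coprime_primes d.prime hr).2 hrp.symm), ha, hu]
      have hxP : x ^ (p * r) ∈ centralizer (N : Set G) := by
        rw [← QuotientGroup.eq_one_iff, QuotientGroup.mk_pow, hx, ← ho, pow_orderOf_eq_one]
      refine d.isolated (g := x ^ r) (h := x ^ (p * p)) (d.isPGroup_of_pow ?_) ?_ ?_ ?_
        ((Commute.refl x).pow_pow _ _).eq
      · rw [← pow_mul, mul_comm]; exact hxP
      · intro e
        have h2 : orderOf (a * u) ∣ r := orderOf_dvd_of_pow_eq_one (by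
          rw [← hx, ← QuotientGroup.mk_pow, e, QuotientGroup.mk_one])
        have := Nat.le_of_dvd hr.pos (ho ▸ h2)
        nlinarith [d.prime.two_le, hr.pos]
      · intro e
        have h2 : orderOf (a * u) ∣ p * p := orderOf_dvd_of_pow_eq_one (by
          rw [← hx, ← QuotientGroup.mk_pow, e, QuotientGroup.mk_one])
        rw [ho] at h2
        have h3 : r ∣ p := Nat.dvd_of_mul_dvd_mul_left d.prime.pos h2
        exact hrp ((Nat.prime_dvd_prime_iff_eq hr d.prime).1 h3)
      · refine Nat.Coprime.coprime_dvd_left (orderOf_dvd_of_pow_eq_one ?_) ((Nat.coprime_primes hr d.prime).2 hrp)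
        rw [← pow_mul, show p * p * r = (p * r) * p by ring, pow_mul]
        exact d.pow_eq_one hxP
    · exact hsemi hr d.prime hrp hu ha hk' (Or.inr h1)
  · by_contra hne
    exact hsemi (k := 1) hr hr hrp hu hw (by rw [pow_one, h]) (Or.inl ⟨Nat.mod_eq_of_lt hr.one_lt, rfl, hne⟩)

theorem false_of_odd (hp : p ≠ 2) (hd : p ∣ (centralizer (N : Set G)).index) : False := by
  haveI := Fact.mk d.prime
  set E := Cfsg.pCore p (G ⧸ centralizer (N : Set G))
  haveI : E.Normal := CfsgLib.Coprime.pCore_normal' p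
  have hE : E = ⊥ := by
    set R := E.comap (QuotientGroup.mk' (centralizer (N : Set G)))
    have hR : IsPGroup p R := by
      intro x
      obtain ⟨m, hm⟩ := CfsgLib.PGroup.isPGroup_pCore p _ ⟨_, x.2⟩
      have hmF : (x : G) ^ p ^ m ∈ centralizer (N : Set G) := by
        rw [← QuotientGroup.eq_one_iff, QuotientGroup.mk_pow]
        exact congrArg Subtype.val hm
      exact ⟨m + 1, Subtype.ext (by
        rw [Subgroup.coe_pow, pow_succ, pow_mul]; exact d.pow_eq_one hmF)⟩
    refine eq_bot_iff.2 fun w hw => ?_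
    obtain ⟨x, rfl⟩ := QuotientGroup.mk_surjective w
    rw [mem_bot, QuotientGroup.eq_one_iff]
    exact d.le_of_normal inferInstance hR hw
  refine (d.qhyp hp).not_dvd_index ?_
  rw [show Cfsg.pCore p (G ⧸ centralizer (N : Set G)) = ⊥ from hE, index_bot, ← index_eq_card]
  exact hd

/-- Frobenius, when `p` does not divide the index. -/
theorem exists_frobenius (htop : centralizer (N : Set G) ≠ ⊤) (hd : ¬ p ∣ (centralizer (N : Set G)).index) :
    ∃ H : Subgroup G, Cfsg.IsFrobeniusComplement H := by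
  haveI := Fact.mk d.prime
  obtain ⟨e, he⟩ := d.isPGroup.exists_card_eq
  obtain ⟨H, hH⟩ := exists_right_complement'_of_coprime (N := centralizer (N : Set G)) (by
    rw [he]; exact Nat.Coprime.pow_left e (d.prime.coprime_iff_not_dvd.2 hd))
  refine ⟨H, (CfsgLib.Coprime.frob_iff_fixed_point_free hH (ne_bot_of_le_ne_bot d.ne_bot d.le_centralizer)
    fun e => htop ?_).2 fun h hh h1 => ?_⟩
  · have := hH.sup_eq_top
    rwa [e, sup_bot_eq] at this
  refine (eq_bot_iff_forall _).2 fun c ⟨hc, hch⟩ => d.fpf hc h1 ?_ (mem_centralizer_singleton_iff.1 hch)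
  refine Nat.Coprime.coprime_dvd_left (Subgroup.orderOf_dvd_natCard H hh) ?_
  have hHi : Nat.card H = (centralizer (N : Set G)).index := by
    refine Nat.eq_of_mul_eq_mul_left (Nat.card_pos (α := centralizer (N : Set G))) ?_
    rw [hH.card_mul, (centralizer (N : Set G)).card_mul_index]
  rw [hHi]
  exact (d.prime.coprime_iff_not_dvd.2 hd).symm

/-- **The case `p = 2`**: the group is `S₄`. -/
theorem symm_four (hp : p = 2) (hd : p ∣ (centralizer (N : Set G)).index) :
    Nonempty (G ≃* Equiv.Perm (Fin 4)) := by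
  classical
  subst hp
  haveI : Fact (Nat.Prime 2) := ⟨Nat.prime_two⟩
  set P := centralizer (N : Set G) with hPdef
  have hsq : ∀ x ∈ P, x * x = 1 := fun x hx => by rw [← sq]; exact d.pow_eq_one hx
  have hcommP : ∀ x ∈ P, ∀ y ∈ P, x * y = y * x := fun x hx y hy => by
    calc x * y = (x * y)⁻¹ := (inv_eq_of_mul_eq_one_right (hsq _ (mul_mem hx hy))).symm
      _ = y * x := by
        rw [mul_inv_rev, inv_eq_of_mul_eq_one_right (hsq x hx), inv_eq_of_mul_eq_one_right (hsq y hy)]
  haveI : IsMulCommutative P := ⟨⟨fun a b => Subtype.ext (hcommP a a.2 b b.2)⟩⟩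
  have hPP : P ≤ centralizer (P : Set G) := fun x hx => mem_centralizer_iff.2 fun y hy => hcommP y hy x hx
  -- every involution of the quotient is a transvection
  have htv : ∀ a : G, a ∉ P → a ^ 2 ∈ P → ∀ v w : P, (v : G) * a ≠ a * v → (w : G) * a ≠ a * w →
      (v : G) * w * a = a * ((v : G) * w) := by
    intro a ha ha2
    refine (d.transvection P d.le_centralizer le_rfl ha2 ?_).2
    by_contra hc
    push Not at hc
    refine ha (mem_centralizer_iff.2 fun n hn => ?_)
    have h1 := congrArg Subtype.val (hc ⟨n, d.le_centralizer hn⟩)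
    rw [nrm_succ, nrm_succ, nrm, Finset.prod_range_zero, map_one, mul_one, Subgroup.coe_mul,
      MulAut.conjNormal_apply, Subgroup.coe_one, mul_eq_one_iff_inv_eq,
      inv_eq_of_mul_eq_one_right (hsq n (d.le_centralizer hn)), eq_mul_inv_iff_mul_eq] at h1
    exact h1
  obtain ⟨w0, hw0⟩ := exists_prime_orderOf_dvd_card' (G := G ⧸ P) 2 (by rwa [← index_eq_card])
  obtain ⟨a, rfl⟩ := QuotientGroup.mk_surjective w0
  have haP : a ∉ P := fun h => by
    rw [(QuotientGroup.eq_one_iff a).2 h, orderOf_one] at hw0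
    omega
  have ha2 : a ^ 2 ∈ P := by rw [← QuotientGroup.eq_one_iff, QuotientGroup.mk_pow, ← hw0, pow_orderOf_eq_one]
  obtain ⟨g, hg⟩ : ∃ g : G ⧸ P,
      ¬ IsPGroup 2 ↥(zpowers (a : G ⧸ P) ⊔ (zpowers (a : G ⧸ P)).map (MulAut.conj g).toMonoidHom) := by
    by_contra hc
    push Not at hc
    obtain ⟨R, hR, hR2, hle⟩ := CfsgLib.Invol.exists_normal_pGroup_le (zpowers (a : G ⧸ P)) hc
    haveI := hR
    refine haP (d.le_of_normal (R := R.comap (QuotientGroup.mk' P)) (hR.comap _) ?_ (hle (mem_zpowers _)))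
    intro x
    obtain ⟨m, hm⟩ := hR2 ⟨_, x.2⟩
    have hmF : (x : G) ^ 2 ^ m ∈ P := by
      rw [← QuotientGroup.eq_one_iff, QuotientGroup.mk_pow]
      exact congrArg Subtype.val hm
    exact ⟨m + 1, Subtype.ext (by rw [Subgroup.coe_pow, pow_succ, pow_mul]; exact d.pow_eq_one hmF)⟩
  obtain ⟨g, rfl⟩ := QuotientGroup.mk_surjective g
  set b := g * a * g⁻¹ with hb
  have hbP : b ∉ P := fun h => haP (by
    have := (inferInstance : P.Normal).conj_mem _ h g⁻¹
    rwa [hb, inv_inv, show g⁻¹ * (g * a * g⁻¹) * g = a by group] at this)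
  have hb2 : b ^ 2 ∈ P := by rw [hb, conj_pow]; exact (inferInstance : P.Normal).conj_mem _ ha2 g
  have hA : ((a : G ⧸ P)) * (a : G ⧸ P) = 1 := by
    rw [← QuotientGroup.mk_mul, QuotientGroup.eq_one_iff, ← sq]; exact ha2
  have hB : ((b : G ⧸ P)) * (b : G ⧸ P) = 1 := by
    rw [← QuotientGroup.mk_mul, QuotientGroup.eq_one_iff, ← sq]; exact hb2
  obtain ⟨r, hr, hr2, hrd⟩ : ∃ r, r.Prime ∧ r ≠ 2 ∧ r ∣ orderOf ((a : G ⧸ P) * b) := by
    by_contra hc
    push Not at hc
    refine hg ?_
    set t : G ⧸ P := (a : G ⧸ P) * b with ht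
    have hab : IsPGroup 2 (zpowers t) := IsPGroup.of_card (n := (orderOf t).primeFactorsList.length) (by
      rw [Nat.card_zpowers]
      exact Nat.eq_prime_pow_of_unique_prime_dvd (orderOf_pos _).ne' fun {r} hr hrd => by
        by_contra hr2
        exact hc r hr hr2 hrd)
    have hinv : (a : G ⧸ P) * t * (a : G ⧸ P)⁻¹ = t⁻¹ := by
      rw [ht, mul_inv_rev, inv_eq_of_mul_eq_one_right hA, inv_eq_of_mul_eq_one_right hB, ← mul_assoc, hA, one_mul]
    have han : zpowers (a : G ⧸ P) ≤ normalizer ((zpowers t : Subgroup (G ⧸ P)) : Set (G ⧸ P)) := by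
      rw [zpowers_le, mem_normalizer_iff]
      have key : ∀ x ∈ zpowers t, (a : G ⧸ P) * x * (a : G ⧸ P)⁻¹ ∈ zpowers t := by
        rintro _ ⟨i, rfl⟩
        refine ⟨-i, ?_⟩
        show t ^ (-i) = _
        rw [← conj_zpow, hinv, inv_zpow']
      refine fun x => ⟨key x, fun h => ?_⟩
      have := key _ h
      rwa [inv_eq_of_mul_eq_one_right hA, show (a : G ⧸ P) * (a * x * a) * a = (a * a) * x * (a * a) by group,
        hA, one_mul, mul_one] at this
    have hJ : IsPGroup 2 ↥(zpowers t ⊔ zpowers (a : G ⧸ P)) :=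
      hab.to_sup_of_normal_left' (IsPGroup.of_card (n := 1) (by rw [Nat.card_zpowers, hw0, pow_one])) han
    refine hJ.to_le (sup_le le_sup_right ?_)
    rw [MonoidHom.map_zpowers, zpowers_le]
    have hm := mul_mem (mem_sup_right (S := zpowers t) (inv_mem (mem_zpowers (a : G ⧸ P))))
      (mem_sup_left (T := zpowers (a : G ⧸ P)) (mem_zpowers t))
    rw [ht, inv_mul_cancel_left, hb, QuotientGroup.mk_mul, QuotientGroup.mk_mul, QuotientGroup.mk_inv] at hm
    exact hm
  set j := orderOf ((a : G ⧸ P) * b) / r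
  have hu : orderOf (((a : G ⧸ P) * b) ^ j) = r := orderOf_pow_orderOf_div (orderOf_pos _).ne' hrd
  obtain ⟨y, hy, hyo⟩ := d.exists_lift hr hr2 hu
  -- `P` has order four
  have hcap : ∀ c ∈ P, c * a = a * c → c * b = b * c → c = 1 := fun c hc hca hcb => by
    refine d.fpf hc (fun e => hr.ne_one (by rw [← hyo, orderOf_eq_one_iff]; exact e))
      (by rw [hyo]; exact (Nat.coprime_primes hr Nat.prime_two).2 hr2) ?_
    obtain ⟨z, hz, e⟩ : ∃ z ∈ P, y = (a * b) ^ j * z := by
      refine ⟨((a * b) ^ j)⁻¹ * y, QuotientGroup.eq.1 ?_, by group⟩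
      rw [hy, QuotientGroup.mk_pow, QuotientGroup.mk_mul]
    rw [e]
    exact (((show Commute c a from hca).mul_right hcb).pow_right j |>.mul_right (hcommP c hc z hz)).eq
  let f : P → Bool × Bool := fun v => (decide ((v : G) * a = a * v), decide ((v : G) * b = b * v))
  have hf : Function.Injective f := by
    intro v w e
    simp only [f, Prod.mk.injEq, decide_eq_decide] at e
    have key : ∀ x : G, x ∉ P → x ^ 2 ∈ P → ((v : G) * x = x * v ↔ (w : G) * x = x * w) →
        (v : G) * w * x = x * ((v : G) * w) := by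
      intro x hx hx2 hiff
      by_cases hv : (v : G) * x = x * v
      · exact ((show Commute (v : G) x from hv).mul_left (hiff.1 hv)).eq
      · exact htv x hx hx2 v w hv fun h => hv (hiff.2 h)
    have h1 := hcap _ (mul_mem v.2 w.2) (key a haP ha2 e.1) (key b hbP hb2 e.2)
    exact Subtype.ext ((mul_eq_one_iff_eq_inv.1 h1).trans (inv_eq_of_mul_eq_one_right (hsq _ w.2)))
  have hle4 : Nat.card P ≤ 4 := by
    have := Nat.card_le_card_of_injective f hf
    simpa using this
  have h3 : 3 ≤ Nat.card P := by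
    obtain ⟨⟨n, hn⟩, hn1⟩ := Subgroup.ne_bot_iff_exists_ne_one.1 d.ne_bot
    obtain ⟨n', hn', hn'2⟩ := SetLike.not_le_iff_exists.1 (d.not_le n hn)
    have hn1' : n ≠ 1 := fun e => hn1 (Subtype.ext e)
    have h1 : n' ≠ 1 := fun e => hn'2 (e ▸ one_mem _)
    have h2 : n' ≠ n := fun e => hn'2 (e ▸ d.part.mem n)
    calc 3 = ({1, n, n'} : Set G).ncard := by
          rw [Set.ncard_eq_three.2 ⟨1, n, n', hn1'.symm, h1.symm, h2.symm, rfl⟩]
      _ ≤ (P : Set G).ncard := Set.ncard_le_ncard (by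
          intro x hx
          rcases hx with rfl | rfl | rfl
          exacts [one_mem P, d.le_centralizer hn, d.le_centralizer hn'])
      _ = _ := (Nat.card_coe_set_eq _).symm
  obtain ⟨e, he⟩ := d.isPGroup.exists_card_eq
  have hP4 : Nat.card P = 4 := by
    rw [he] at hle4 h3 ⊢
    have : e < 3 := by
      by_contra h
      have := Nat.pow_le_pow_right two_pos (not_lt.1 h)
      omega
    interval_cases e <;> simp_all
  -- the quotient acts faithfully on the three involutions of `P`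
  letI : MulAction G {c : P // c ≠ 1} :=
    { smul := fun g c => ⟨MulAut.conjNormal g c.1, fun e => c.2 ((MulEquiv.map_eq_one_iff _).1 e)⟩
      one_smul := fun c => Subtype.ext (by show (MulAut.conjNormal (1 : G) : MulAut P) c.1 = c.1; rw [map_one]; rfl)
      mul_smul := fun g h c => Subtype.ext (by
        show (MulAut.conjNormal (g * h) : MulAut P) c.1 = MulAut.conjNormal g (MulAut.conjNormal h c.1)
        rw [map_mul]; rfl) }
  haveI := Fintype.ofFinite P
  have hi6 : (centralizer (N : Set G)).index ∣ 6 := by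
    have hker : (MulAction.toPermHom G {c : P // c ≠ 1}).ker = P := by
      refine le_antisymm (fun x hx => mem_centralizer_iff.2 fun n hn => ?_) fun x hx => ?_
      · by_cases hn1 : n = 1
        · rw [hn1, one_mul, mul_one]
        have h1 := congrArg (fun c : {c : P // c ≠ 1} => ((c.1 : P) : G))
          (Equiv.Perm.congr_fun (MonoidHom.mem_ker.1 hx)
            ⟨⟨n, d.le_centralizer hn⟩, fun e => hn1 (congrArg Subtype.val e)⟩)
        exact (mul_inv_eq_iff_eq_mul.1 h1).symm
      · refine MonoidHom.mem_ker.2 (Equiv.Perm.ext fun c => Subtype.ext (Subtype.ext ?_))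
        show x * (c.1 : G) * x⁻¹ = c.1
        rw [hcommP x hx _ c.1.2, mul_inv_cancel_right]
    have h3 : Nat.card {c : P // c ≠ 1} = 3 := by
      rw [Nat.card_eq_fintype_card, Fintype.card_subtype_compl, Fintype.card_subtype_eq, ← Nat.card_eq_fintype_card,
        hP4]
    have h1 := (MulAction.toPermHom G {c : P // c ≠ 1}).range.card_subgroup_dvd_card
    rw [← Subgroup.index_ker, hker, Nat.card_perm, h3] at h1
    exact h1
  have h2r : 2 * r ∣ (centralizer (N : Set G)).index := by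
    refine Nat.Coprime.mul_dvd_of_dvd_of_dvd ((Nat.coprime_primes Nat.prime_two hr).2 (Ne.symm hr2)) hd ?_
    rw [index_eq_card, ← hu]
    exact orderOf_dvd_natCard _
  have hr3 : r = 3 := by
    have h1 : r ∣ 6 := (dvd_mul_left r 2).trans (h2r.trans hi6)
    have := Nat.le_of_dvd (by norm_num) h1
    interval_cases r <;> simp_all (config := { decide := true })
  have hidx : (centralizer (N : Set G)).index = 6 := Nat.dvd_antisymm hi6 (by rw [hr3] at h2r; exact h2r)
  have hG : Nat.card G = 24 := by rw [← P.card_mul_index, hP4, hidx]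
  -- the action on the four Sylow 3-subgroups
  haveI : Fact (Nat.Prime 3) := ⟨Nat.prime_three⟩
  have hfix : ∀ Q : Sylow 3 G, ∀ c ∈ P, c ∈ normalizer ((Q : Subgroup G) : Set G) → c = 1 := by
    intro Q c hc hcn
    have hQ : (Q : Subgroup G) ≠ ⊥ := Q.ne_bot_of_dvd_card (hG ▸ by norm_num)
    obtain ⟨⟨z, hz⟩, hz1⟩ := Subgroup.ne_bot_iff_exists_ne_one.1 hQ
    have hz1' : z ≠ 1 := fun e => hz1 (Subtype.ext e)
    obtain ⟨k, hk⟩ := IsPGroup.iff_orderOf.1 Q.2 ⟨z, hz⟩
    rw [Subgroup.orderOf_mk] at hk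
    have hcop : (orderOf z).Coprime 2 := hk ▸ Nat.Coprime.pow_left k (by norm_num)
    refine d.fpf hc hz1' hcop (mul_inv_eq_iff_eq_mul.1 (mul_inv_eq_one.1 ?_))
    have h1 : c * z * c⁻¹ * z⁻¹ ∈ (Q : Subgroup G) := mul_mem ((mem_normalizer_iff.1 hcn z).1 hz) (inv_mem hz)
    have h2 : c * z * c⁻¹ * z⁻¹ ∈ P := by
      rw [show c * z * c⁻¹ * z⁻¹ = c * (z * c⁻¹ * z⁻¹) by group]
      exact mul_mem hc ((inferInstance : P.Normal).conj_mem _ (inv_mem hc) z)
    obtain ⟨k', hk'⟩ := IsPGroup.iff_orderOf.1 Q.2 ⟨_, h1⟩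
    rw [Subgroup.orderOf_mk] at hk'
    exact orderOf_eq_one_iff.1 (Nat.eq_one_of_dvd_coprimes
      (Nat.Coprime.pow_left k' (by norm_num : Nat.Coprime 3 2)) hk'.dvd
      (orderOf_dvd_of_pow_eq_one (d.pow_eq_one h2)))
  obtain ⟨Q0⟩ : Nonempty (Sylow 3 G) := inferInstance
  have hQc : Nat.card Q0 = 3 := by
    rw [Q0.card_eq_multiplicity, hG, show (24 : ℕ) = 3 * 8 from rfl, Nat.factorization_mul (by norm_num) (by norm_num)]
    rw [Finsupp.add_apply, Nat.prime_three.factorization_self, Nat.factorization_eq_zero_of_not_dvd (by norm_num)]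
    norm_num
  have hn : Nat.card (Sylow 3 G) = 4 := by
    have h8 : Nat.card (Sylow 3 G) ∣ 8 := by
      have h1 := Q0.card_dvd_index
      have h2 := (Q0 : Subgroup G).card_mul_index
      rw [hQc, hG] at h2
      rwa [show (Q0 : Subgroup G).index = 8 by omega] at h1
    have hmod := card_sylow_modEq_one 3 G
    have hne : Nat.card (Sylow 3 G) ≠ 1 := fun h => by
      haveI := (Nat.card_eq_one_iff_unique.1 h).1
      obtain ⟨⟨c, hc⟩, hc1⟩ := Subgroup.ne_bot_iff_exists_ne_one.1
        (show P ≠ ⊥ from fun e => by rw [e, Subgroup.card_bot] at hP4; omega)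
      exact hc1 (Subtype.ext (hfix Q0 c hc (by haveI := Q0.normal_of_subsingleton; rw [Subgroup.normalizer_eq_top]; exact mem_top c)))
    have := Nat.le_of_dvd (by norm_num) h8
    rw [Nat.ModEq] at hmod
    interval_cases h : Nat.card (Sylow 3 G) <;> simp_all
  obtain ⟨σ⟩ : Nonempty (Sylow 3 G ≃ Fin 4) := ⟨(Finite.equivFin _).trans (finCongr hn)⟩
  let ψ : G →* Equiv.Perm (Fin 4) := σ.permCongrHom.toMonoidHom.comp (MulAction.toPermHom G (Sylow 3 G))
  have hψ : Function.Injective ψ := by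
    rw [← MonoidHom.ker_eq_bot_iff]
    set M := ψ.ker
    have hMn : ∀ x ∈ M, ∀ Q : Sylow 3 G, x ∈ normalizer ((Q : Subgroup G) : Set G) := by
      intro x hx Q
      have h1 : MulAction.toPermHom G (Sylow 3 G) x = 1 :=
        σ.permCongrHom.injective (by rw [map_one]; exact hx)
      exact Sylow.smul_eq_iff_mem_normalizer.1 (Equiv.Perm.congr_fun h1 Q)
    have hMP : ∀ x ∈ M, x ∈ P → x = 1 := fun x hx hxP => hfix Q0 x hxP (hMn x hx Q0)
    refine (eq_bot_iff_forall _).2 fun x hx => hMP x hx (mem_centralizer_iff.2 fun n hn' => ?_)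
    refine mul_inv_eq_iff_eq_mul.1 (mul_inv_eq_one.1 (hMP _ ?_ ?_))
    · rw [show n * x * n⁻¹ * x⁻¹ = (n * x * n⁻¹) * x⁻¹ by group]
      exact mul_mem ((inferInstance : M.Normal).conj_mem x hx n) (inv_mem hx)
    · rw [show n * x * n⁻¹ * x⁻¹ = n * (x * n⁻¹ * x⁻¹) by group]
      exact mul_mem (d.le_centralizer hn') ((inferInstance : P.Normal).conj_mem _ (inv_mem (d.le_centralizer hn')) x)
  exact ⟨MulEquiv.ofBijective ψ (hψ.bijective_of_nat_card_le (by
    rw [hG, Nat.card_eq_fintype_card, Fintype.card_perm, Fintype.card_fin]; rfl))⟩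

/-- **A spread minimal normal subgroup**: `S₄`, Hughes subgroup or Frobenius group. -/
theorem cases : Nonempty (G ≃* Equiv.Perm (Fin 4)) ∨
    (∃ p : ℕ, p.Prime ∧ Subgroup.closure {g : G | g ^ p ≠ 1} ≠ ⊤) ∨
    ∃ H : Subgroup G, Cfsg.IsFrobeniusComplement H := by
  by_cases htop : centralizer (N : Set G) = ⊤
  · refine Or.inr (Or.inl ⟨p, d.prime, ?_⟩)
    have h : {g : G | g ^ p ≠ 1} = ∅ := Set.eq_empty_iff_forall_notMem.2 fun g hg =>
      hg (d.pow_eq_one (htop ▸ mem_top g))
    rw [h, Subgroup.closure_empty]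
    intro e
    exact d.ne_bot (le_bot_iff.1 (e ▸ le_top))
  by_cases hd : p ∣ (centralizer (N : Set G)).index
  · by_cases hp : p = 2
    · exact Or.inl (d.symm_four hp hd)
    · exact (d.false_of_odd hp hd).elim
  · exact Or.inr (Or.inr (d.exists_frobenius htop hd))

end Spread

end CfsgLib.Partition
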