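import Cfsg.Agent.Lib.Partition.Normal
import Cfsg.Agent.Lib.Partition.SpreadMain
import Cfsg.Agent.Lib.Partition.Semisimple

/-!
# Groups with a nontrivial partition

Baer, Kegel and Suzuki's classification.
-/

set_option autoImplicit false
set_option linter.style.haveILetI false
set_option linter.unusedSectionVars false

namespace CfsgLib.Partition

open Subgroup

universe u

variable {G : Type u} [Group G] [Finite G]

/-- **Baer, Kegel, Suzuki**: the groups with a nontrivial partition, given the Gorenstein-Walter theorem. -/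
theorem classification (S : Set (Subgroup G)) (hS2 : ∃ H ∈ S, ∃ K ∈ S, H ≠ K)
    (hS1 : ∀ H ∈ S, H ≠ ⊥) (hpart : ∀ g : G, g ≠ 1 → ∃! H : Subgroup G, H ∈ S ∧ g ∈ H)
    (hgw : CfsgLib.GW.GWBelow.{u} (Nat.card G)) :
    Nonempty (G ≃* Equiv.Perm (Fin 4)) ∨
    (∃ p : ℕ, p.Prime ∧ Subgroup.closure {g : G | g ^ p ≠ 1} ≠ ⊤) ∨
    (∃ H : Subgroup G, Cfsg.IsFrobeniusComplement H) ∨
    (∃ (F : Type) (_ : Field F) (_ : Fintype F), 4 ≤ Fintype.card F ∧
        Nonempty (G ≃* Matrix.ProjectiveSpecialLinearGroup (Fin 2) F)) ∨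
    (∃ (F : Type) (_ : Field F) (_ : Fintype F), 5 ≤ Fintype.card F ∧ Odd (Fintype.card F) ∧
        Nonempty (G ≃* (GL (Fin 2) F ⧸ Subgroup.center (GL (Fin 2) F)))) ∨
    Cfsg.Lie.IsoSuzuki G := by
  classical
  obtain ⟨K, hK⟩ := exists_isPart S hS2 hS1 hpart
  haveI : Nontrivial G := by
    by_contra h
    obtain ⟨A, hA, -⟩ := hS2
    haveI := not_nontrivial_iff_subsingleton.1 h
    exact hS1 A hA (Subgroup.eq_bot_of_subsingleton A)
  by_cases hR : ∀ R : Subgroup G, R.Normal → Group.IsSolvable R → R = ⊥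
  · rcases semisimple hK hR hgw with h | h | h
    exacts [Or.inr (Or.inr (Or.inr (Or.inl h))), Or.inr (Or.inr (Or.inr (Or.inr (Or.inl h)))),
      Or.inr (Or.inr (Or.inr (Or.inr (Or.inr h))))]
  push Not at hR
  obtain ⟨R, hRn, hRs, hRne⟩ := hR
  haveI := hRn
  obtain ⟨N, hN, hNne, hNR, hmin⟩ := CfsgLib.Coprime.exists_minimal_normal_le hRne
  haveI := hN
  haveI := hRs
  haveI : Group.IsSolvable N := CfsgLib.Coprime.isSolvable_of_le hNR inferInstance
  obtain ⟨hcomm, p, hp, hexp⟩ := CfsgLib.Coprime.minimal_normal_solvable hNne hmin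
  by_cases hin : ∃ n ∈ N, N ≤ K n
  · obtain ⟨n, hn, hle⟩ := hin
    have hn1 : n ≠ 1 := fun e => hNne (le_bot_iff.1 (by rw [e, hK.one] at hle; exact hle))
    haveI : (K n).Normal := ⟨fun y hy g => hK.conj_mem_of_conj (hK.mem n) hn1 (hle (hN.conj_mem n hn g)) hy⟩
    have d : NComp K (K n) := ⟨hK, fun e => hn1 (mem_bot.1 (e ▸ hK.mem n)), fun x hx hx1 => hK.eq n x hx hx1⟩
    rcases d.hughes_or_frobenius with h | h
    exacts [Or.inr (Or.inl h), Or.inr (Or.inr (Or.inl h))]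
  · push Not at hin
    rcases Spread.cases (⟨hK, hp, hNne, hcomm, hexp, hmin, hin⟩ : Spread K N p) with h | h | h
    exacts [Or.inl h, Or.inr (Or.inl h), Or.inr (Or.inr (Or.inl h))]

end CfsgLib.Partition
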