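import Cfsg.Agent.Lib.Coprime.Fitting
import Cfsg.Agent.Lib.PGroup.Basic
import Cfsg.Agent.Lib.Invol.BrauerSuzuki
import Cfsg.Agent.Lib.Invol.NormalCore
import Cfsg.Agent.S0205

/-!
# Groups in which elements of order `q` normalize no `q'`-group

The quotient step of Baer's and Kegel's theorems on partitions: the largest normal `q`-subgroup is a Sylow
subgroup.
-/

set_option autoImplicit false
set_option linter.style.haveILetI false
set_option linter.unusedSectionVars false

namespace CfsgLib.Partition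

open Subgroup

universe u

variable {W : Type u} [Group W] [Finite W]

/-- Elements of order `q` normalize no subgroup of prime order `≠ q`, and no `r × r` for primes `r ≠ q`. -/
structure QHyp (W : Type u) [Group W] (q : ℕ) : Prop where
  norml : ∀ a u : W, ∀ r : ℕ, orderOf a = q → r.Prime → r ≠ q → orderOf u = r →
    a * u * a⁻¹ ∈ zpowers u → False
  rr : ∀ u w : W, ∀ r : ℕ, r.Prime → r ≠ q → orderOf u = r → orderOf w = r → u * w = w * u → w ∈ zpowers u
  four : q = 2 → ∀ a : W, orderOf a ≠ 4

namespace QHyp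

variable {q : ℕ} (h : QHyp W q)
include h

/-- No element of order `q` normalizes a nontrivial `r`-group. -/
theorem false_of_normalizes {a : W} {r : ℕ} (hr : r.Prime) (hrq : r ≠ q) (ha : orderOf a = q) {R : Subgroup W}
    (hR : IsPGroup r R) (hne : R ≠ ⊥) (hn : a ∈ normalizer (R : Set W)) : False := by
  haveI := Fact.mk hr
  haveI : Nontrivial R := (nontrivial_iff_ne_bot R).2 hne
  haveI := hR.center_nontrivial
  obtain ⟨k, hk⟩ := (hR.to_subgroup (center R)).exists_card_eq
  have hk0 : k ≠ 0 := fun e => by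
    rw [e, pow_zero] at hk
    exact absurd (Finite.one_lt_card (α := center R)) (by omega)
  obtain ⟨z, hz⟩ := exists_prime_orderOf_dvd_card' (G := center R) r (hk ▸ dvd_pow_self r hk0)
  have hzo : orderOf ((z : R) : W) = r := by rw [orderOf_coe, orderOf_coe, hz]
  refine h.norml a _ r ha hr hrq hzo ?_
  have hmem : a * ((z : R) : W) * a⁻¹ ∈ R := (mem_normalizer_iff.1 hn _).1 (z : R).2
  refine h.rr _ _ r hr hrq hzo ?_ ?_
  · rw [show a * ((z : R) : W) * a⁻¹ = MulAut.conj a ((z : R) : W) from rfl, MulEquiv.orderOf_eq, hzo]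
  · exact congrArg Subtype.val (mem_center_iff.1 z.2 ⟨_, hmem⟩).symm

/-- Frattini step: no normal `r`-extension of `O_q(W)` below an element of order `q`. -/
theorem false_of_extension [hq : Fact q.Prime] {r : ℕ} (hr : r.Prime) (hrq : r ≠ q) (Y : Subgroup W)
    [Y.Normal] (hlt : Cfsg.pCore q W < Y) (hY : ∀ y ∈ Y, ∃ m : ℕ, y ^ r ^ m ∈ Cfsg.pCore q W)
    (hd : q ∣ (Cfsg.pCore q W).index) : False := by
  haveI := Fact.mk hr
  set E := Cfsg.pCore q W with hE
  haveI : E.Normal := CfsgLib.Coprime.pCore_normal' q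
  obtain ⟨R⟩ : Nonempty (Sylow r Y) := inferInstance
  set R0 := (R : Subgroup Y).map Y.subtype
  obtain ⟨y, hyY, hyE⟩ := SetLike.exists_of_lt hlt
  have hquo : IsPGroup r (Y ⧸ E.subgroupOf Y) := by
    intro x
    obtain ⟨⟨x, hx⟩, rfl⟩ := QuotientGroup.mk_surjective x
    obtain ⟨m, hm⟩ := hY x hx
    exact ⟨m, by rw [← QuotientGroup.mk_pow, QuotientGroup.eq_one_iff, mem_subgroupOf]; exact hm⟩
  obtain ⟨k, hk⟩ := hquo.exists_card_eq
  rw [← index_eq_card] at hk
  have hk0 : k ≠ 0 := fun e => hyE (by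
    rw [e, pow_zero, index_eq_one, subgroupOf_eq_top] at hk
    exact hk hyY)
  have hrY : r ∣ Nat.card Y := (dvd_pow_self r hk0).trans (hk ▸ index_dvd_card _)
  have hne : R0 ≠ ⊥ := by
    rw [Ne, map_eq_bot_iff_of_injective _ Y.subtype_injective]
    exact R.ne_bot_of_dvd_card hrY
  have hsup : E.subgroupOf Y ⊔ (R : Subgroup Y) = ⊤ := index_eq_one.1 (Nat.eq_one_of_dvd_coprimes
    (Nat.Coprime.pow_left k ((hr.coprime_iff_not_dvd).2 R.not_dvd_index))
    (hk ▸ index_dvd_of_le le_sup_left) (index_dvd_of_le le_sup_right))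
  have hYle : Y ≤ E ⊔ R0 := by
    have h1 := congrArg (Subgroup.map Y.subtype) hsup
    rw [Subgroup.map_sup, subgroupOf_map_subtype, inf_eq_left.2 hlt.le, ← MonoidHom.range_eq_map,
      range_subtype] at h1
    exact h1.ge
  have htop : normalizer (R0 : Set W) ⊔ E = ⊤ := by
    refine eq_top_iff.2 (R.normalizer_sup_eq_top.ge.trans (sup_le le_sup_left (hYle.trans ?_)))
    exact sup_le le_sup_right (le_normalizer.trans le_sup_left)
  have hdvd := CfsgLib.Coprime.card_sup_dvd_of_normal (normalizer (R0 : Set W)) E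
  rw [htop, card_top, ← E.card_mul_index, mul_comm] at hdvd
  have hqN : q ∣ Nat.card (normalizer (R0 : Set W)) :=
    hd.trans ((Nat.mul_dvd_mul_iff_right Nat.card_pos).1 hdvd)
  obtain ⟨a, ha⟩ := exists_prime_orderOf_dvd_card' (G := normalizer (R0 : Set W)) q hqN
  exact h.false_of_normalizes hr hrq (a := (a : W)) (by rw [orderOf_coe, ha]) (R.2.map Y.subtype) hne a.2

/-- **The largest normal `q`-subgroup is a Sylow subgroup.** -/
theorem not_dvd_index [hq : Fact q.Prime] : ¬ q ∣ (Cfsg.pCore q W).index := by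
  intro hd
  set E := Cfsg.pCore q W with hE
  haveI : E.Normal := CfsgLib.Coprime.pCore_normal' q
  by_cases hq2 : q = 2
  · subst hq2
    obtain ⟨T⟩ : Nonempty (Sylow 2 W) := inferInstance
    obtain ⟨a, haT, haE⟩ : ∃ a ∈ (T : Subgroup W), a ∉ E := by
      by_contra hc
      push Not at hc
      exact T.not_dvd_index (hd.trans (index_dvd_of_le hc))
    obtain ⟨j, hj⟩ := IsPGroup.iff_orderOf.1 T.2 ⟨a, haT⟩
    rw [Subgroup.orderOf_mk] at hj
    have ha : orderOf a = 2 := by
      rcases j with _ | _ | j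
      · exact absurd (orderOf_eq_one_iff.1 (by rwa [pow_zero] at hj)) fun e => haE (by rw [e]; exact one_mem E)
      · simpa using hj
      · exfalso
        refine h.four rfl (a ^ 2 ^ j) ?_
        rw [orderOf_pow_of_dvd (by positivity) (hj ▸ pow_dvd_pow 2 (by omega)), hj, Nat.pow_div (by omega) two_pos,
          show j + 1 + 1 - j = 2 by omega]
        norm_num
    obtain ⟨g, hg⟩ : ∃ g : W, ¬ IsPGroup 2 ↥(zpowers a ⊔ (zpowers a).map (MulAut.conj g).toMonoidHom) := by
      by_contra hc
      push Not at hc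
      obtain ⟨N, hN, hN2, hle⟩ := CfsgLib.Invol.exists_normal_pGroup_le (zpowers a) hc
      exact haE (CfsgLib.PGroup.le_pCore hN hN2 (hle (mem_zpowers a)))
    set b := g * a * g⁻¹ with hb
    have haa : a * a = 1 := by rw [← sq, ← ha, pow_orderOf_eq_one]
    have hbo : b * b = 1 := by
      calc b * b = g * (a * a) * g⁻¹ := by rw [hb]; group
        _ = 1 := by rw [haa]; group
    have hinv : a * (a * b) * a⁻¹ = (a * b)⁻¹ := by
      rw [mul_inv_rev, inv_eq_of_mul_eq_one_right haa, inv_eq_of_mul_eq_one_right hbo, ← mul_assoc, haa, one_mul]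
    obtain ⟨r, hr, hr2, hrd⟩ : ∃ r, r.Prime ∧ r ≠ 2 ∧ r ∣ orderOf (a * b) := by
      by_contra hc
      push Not at hc
      apply hg
      have hab : IsPGroup 2 (zpowers (a * b)) := IsPGroup.of_card (n := (orderOf (a * b)).primeFactorsList.length) (by
        rw [Nat.card_zpowers]
        exact Nat.eq_prime_pow_of_unique_prime_dvd (orderOf_pos _).ne' fun {r} hr hrd => by
          by_contra hr2
          exact hc r hr hr2 hrd)
      have han : zpowers a ≤ normalizer ((zpowers (a * b) : Subgroup W) : Set W) := by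
        rw [zpowers_le, mem_normalizer_iff]
        intro x
        constructor
        · rintro ⟨i, rfl⟩
          refine ⟨-i, ?_⟩
          show (a * b) ^ (-i) = a * (a * b) ^ i * a⁻¹
          rw [← conj_zpow, hinv, inv_zpow']
        · rintro ⟨i, hi⟩
          refine ⟨-i, ?_⟩
          show (a * b) ^ (-i) = x
          have hx : x = a⁻¹ * (a * b) ^ i * a := by
            rw [show (a * b) ^ i = a * x * a⁻¹ from hi]; group
          rw [hx, inv_eq_of_mul_eq_one_right haa, show a * (a * b) ^ i * a = a * (a * b) ^ i * a⁻¹ by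
            rw [inv_eq_of_mul_eq_one_right haa], ← conj_zpow, hinv, inv_zpow']
      have hJ : IsPGroup 2 ↥(zpowers (a * b) ⊔ zpowers a) :=
        hab.to_sup_of_normal_left' (IsPGroup.of_card (n := 1) (by rw [Nat.card_zpowers, ha, pow_one])) han
      refine hJ.to_le (sup_le le_sup_right ?_)
      rw [MonoidHom.map_zpowers, zpowers_le]
      have hm := mul_mem (mem_sup_right (S := zpowers (a * b)) (inv_mem (mem_zpowers a)))
        (mem_sup_left (T := zpowers a) (mem_zpowers (a * b)))
      rw [inv_mul_cancel_left] at hm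
      exact hm
    refine h.norml a ((a * b) ^ (orderOf (a * b) / r)) r ha hr hr2
      (orderOf_pow_orderOf_div (orderOf_pos _).ne' hrd) ?_
    rw [← conj_pow, hinv, inv_pow]
    exact inv_mem (mem_zpowers _)
  -- odd `q`
  set O := Cfsg.pPrimeCore 2 W with hOdef
  haveI : O.Characteristic := CfsgLib.Coprime.pPrimeCore_characteristic 2
  haveI : O.Normal := inferInstance
  have hOodd : Odd (Nat.card O) := Nat.odd_iff.2 (Nat.two_dvd_ne_zero.1
    (CfsgLib.Coprime.pPrimeCore_not_dvd Nat.prime_two))
  haveI hOs : Group.IsSolvable O := Cfsg.Agent.S0205.result hOodd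
  haveI : Fact (Nat.Prime 2) := ⟨Nat.prime_two⟩
  by_cases hOE : O ≤ E
  · by_cases heven : 2 ∣ Nat.card W
    · obtain ⟨T⟩ : Nonempty (Sylow 2 W) := inferInstance
      haveI : Nontrivial T := (nontrivial_iff_ne_bot _).2 (T.ne_bot_of_dvd_card heven)
      haveI := T.2.center_nontrivial
      obtain ⟨k, hk⟩ := (T.2.to_subgroup (center T)).exists_card_eq
      have hk0 : k ≠ 0 := fun e => by
        rw [e, pow_zero] at hk
        exact absurd (Finite.one_lt_card (α := center T)) (by omega)
      obtain ⟨z, hz⟩ := exists_prime_orderOf_dvd_card' (G := center T) 2 (hk ▸ dvd_pow_self 2 hk0)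
      have hzo : orderOf ((z : T) : W) = 2 := by rw [orderOf_coe, orderOf_coe, hz]
      have ht2 : ((z : T) : W) ^ 2 = 1 := orderOf_dvd_iff_pow_eq_one.1 hzo.dvd
      have hzc := CfsgLib.Invol.zcentral_of_unique_invol T hzo fun x hx hxo => by
        have hm := h.rr _ _ 2 Nat.prime_two (Ne.symm hq2) hzo hxo
          (congrArg Subtype.val (mem_center_iff.1 z.2 ⟨x, hx⟩).symm)
        obtain ⟨i, rfl⟩ := hm
        dsimp only at hxo ⊢
        rcases Int.even_or_odd i with ⟨m, hm⟩ | ⟨m, hm⟩
        · rw [hm, ← two_mul, zpow_mul, zpow_ofNat, ht2, one_zpow, orderOf_one] at hxo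
          omega
        · rw [hm, zpow_add, zpow_mul, zpow_ofNat, ht2, one_zpow, zpow_one, one_mul]
      set t : W := ((z : T) : W) with htdef
      haveI : (E ⊔ zpowers t).Normal := by
        refine normalizer_eq_top_iff.1 (eq_top_iff.2 fun g _ => ?_)
        have key : ∀ g : W, (E ⊔ zpowers t).map (MulAut.conj g).toMonoidHom ≤ E ⊔ zpowers t := fun g => by
          rw [Subgroup.map_sup]
          refine sup_le ?_ ?_
          · rintro _ ⟨e, he, rfl⟩
            exact mem_sup_left ((inferInstance : E.Normal).conj_mem e he g)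
          · rw [MonoidHom.map_zpowers, zpowers_le]
            show g * t * g⁻¹ ∈ _
            have h1 : t * g * t⁻¹ * g⁻¹ ∈ E := hOE (hzc g)
            have h2 : g * t * g⁻¹ = (t * g * t⁻¹ * g⁻¹)⁻¹ * t := by group
            rw [h2]
            exact mul_mem (mem_sup_left (inv_mem h1)) (mem_sup_right (mem_zpowers t))
        refine mem_normalizer_iff.2 fun x => ⟨fun hx => key g ⟨x, hx, rfl⟩, fun hx => ?_⟩
        have := key g⁻¹ ⟨_, hx, rfl⟩
        simpa [mul_assoc] using this
      refine h.false_of_extension Nat.prime_two (Ne.symm hq2) (E ⊔ zpowers t) ?_ ?_ hd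
      · refine lt_of_le_of_ne le_sup_left fun e => ?_
        have h1 : t ∈ E := e.ge (mem_sup_right (mem_zpowers t))
        obtain ⟨j, hj⟩ := IsPGroup.iff_orderOf.1 (CfsgLib.PGroup.isPGroup_pCore q W) ⟨t, h1⟩
        rw [Subgroup.orderOf_mk, hzo] at hj
        rcases j with _ | j
        · simp at hj
        · exact hq2 ((Nat.prime_dvd_prime_iff_eq hq.out Nat.prime_two).1 (hj ▸ dvd_pow_self q j.succ_ne_zero))
      · intro y hy
        refine ⟨1, ?_⟩
        obtain ⟨e, he, _, ⟨i, rfl⟩, rfl⟩ := Subgroup.mem_sup_of_normal_left.1 hy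
        rw [← QuotientGroup.eq_one_iff, pow_one, QuotientGroup.mk_pow, QuotientGroup.mk_mul,
          (QuotientGroup.eq_one_iff e).2 he, one_mul, ← QuotientGroup.mk_pow]
        rw [← zpow_natCast, ← zpow_mul, mul_comm, zpow_mul, zpow_natCast, ht2, one_zpow,
          QuotientGroup.mk_one]
    · have hW : O = ⊤ := by
        refine top_unique (le_sSup ⟨inferInstance, ?_⟩)
        rw [card_top, Nat.coprime_comm]
        exact (Nat.prime_two.coprime_iff_not_dvd).2 heven
      rw [top_le_iff.1 (hW ▸ hOE : (⊤ : Subgroup W) ≤ E), index_top, Nat.dvd_one] at hd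
      exact hq.out.ne_one hd
  · set Ob := O.map (QuotientGroup.mk' E)
    haveI : Ob.Normal := (inferInstance : O.Normal).map _ (QuotientGroup.mk'_surjective E)
    have hne : Ob ≠ ⊥ := fun e => hOE (by
      rwa [Subgroup.map_eq_bot_iff, QuotientGroup.ker_mk'] at e)
    obtain ⟨N, hN, hNne, hNle, hmin⟩ := CfsgLib.Coprime.exists_minimal_normal_le hne
    haveI : Group.IsSolvable Ob := Group.isSolvable_of_surjective ((QuotientGroup.mk' E).subgroupMap_surjective O)
    haveI : Group.IsSolvable N := CfsgLib.Coprime.isSolvable_of_le hNle inferInstance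
    haveI := hN
    obtain ⟨-, r, hr, hexp⟩ := CfsgLib.Coprime.minimal_normal_solvable hNne hmin
    haveI := Fact.mk hr
    set Y := N.comap (QuotientGroup.mk' E)
    haveI : Y.Normal := hN.comap _
    have hEY : E ≤ Y := fun e he => by
      show (e : W ⧸ E) ∈ N
      rw [(QuotientGroup.eq_one_iff e).2 he]
      exact one_mem N
    have hlt : E < Y := by
      refine lt_of_le_of_ne hEY fun e => hNne ?_
      rw [← map_comap_eq_self_of_surjective (QuotientGroup.mk'_surjective E) N,
        show N.comap (QuotientGroup.mk' E) = E from e.symm, QuotientGroup.map_mk'_self]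
    have hY : ∀ y ∈ Y, ∃ m : ℕ, y ^ r ^ m ∈ E := fun y hy =>
      ⟨1, by rw [pow_one, ← QuotientGroup.eq_one_iff, QuotientGroup.mk_pow]; exact hexp _ hy⟩
    refine h.false_of_extension hr (fun e => ?_) Y hlt hY hd
    subst e
    refine hlt.not_ge (CfsgLib.PGroup.le_pCore inferInstance ?_)
    intro y
    obtain ⟨m, hm⟩ := hY y y.2
    obtain ⟨n, hn⟩ := CfsgLib.PGroup.isPGroup_pCore r W ⟨_, hm⟩
    exact ⟨m + n, Subtype.ext (by
      have := congrArg Subtype.val hn
      simpa [pow_add, pow_mul] using this)⟩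

end QHyp

end CfsgLib.Partition
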