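import Cfsg.Agent.Lib.Partition.Kernel
import Cfsg.Agent.Lib.Partition.Quot

/-!
# Partitions with a normal component

Baer: the group is a Frobenius group or has a proper Hughes subgroup.
-/

set_option autoImplicit false
set_option linter.style.haveILetI false
set_option linter.unusedSectionVars false

namespace CfsgLib.Partition

open Subgroup

universe u

variable {G : Type u} [Group G] [Finite G] {K : G → Subgroup G} {F : Subgroup G} [hFn : F.Normal]

namespace NComp

variable (d : NComp K F)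
include d

theorem orderOf_lift {x : G} (h : (x : G ⧸ F) ≠ 1) : x ∉ F ∧ orderOf x = orderOf (x : G ⧸ F) := by
  have hx : x ∉ F := fun hx => h ((QuotientGroup.eq_one_iff x).2 hx)
  exact ⟨hx, (d.orderOf_mk hx).symm⟩

theorem exists_fixed {a : G} {q : ℕ} (hq : q.Prime) (ha : orderOf a = q) (hqF : q ∣ Nat.card F) :
    ∃ c ∈ F, c ≠ 1 ∧ a * c = c * a := by
  haveI := Fact.mk hq
  have hpA : IsPGroup q (zpowers a) := IsPGroup.of_card (n := 1) (by rw [Nat.card_zpowers, ha, pow_one])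
  letI : MulAction (zpowers a) F :=
    MulAction.compHom F ((MulAut.conjNormal : G →* MulAut F).comp (zpowers a).subtype)
  obtain ⟨c, hc, hne⟩ := hpA.exists_fixed_point_of_prime_dvd_card_of_fixed_point F hqF
    (a := (1 : F)) (fun g => map_one (MulAut.conjNormal (g : G)))
  have h2 : a * c * a⁻¹ = c := congrArg Subtype.val (hc ⟨a, mem_zpowers a⟩)
  exact ⟨c, c.2, fun e => hne (Subtype.ext e.symm), mul_inv_eq_iff_eq_mul.1 h2⟩

/-- Norms force commutation in the quotient. -/
theorem semi {s : ℕ} (hs : s.Prime) (hsF : s ∣ Nat.card F) {u w : G ⧸ F} {r n k : ℕ} (hr : r.Prime) (hn : n.Prime)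
    (hrs : r ≠ s) (hu : orderOf u = r) (hw : orderOf w = n) (hk : w * u = u ^ k * w)
    (hcase : (k % r = 1 ∧ n = r ∧ w ∉ zpowers u) ∨ k % r ≠ 1) : False := by
  obtain ⟨⟨v, hv⟩, hv1⟩ := Subgroup.ne_bot_iff_exists_ne_one.1 (d.omega_ne_bot hs hsF)
  have h := pow_eq_one_of_semi (omega F s) F
    (fun f hf => mem_centralizer_iff.2 fun x hx => (hx.2.2 f hf).symm)
    (fun g hg m _ hgm t => Subtype.ext (by
      have h1 := coe_nrm_mul_pow (omega F s) g m t
      rw [d.coset_pow t.2.1 hg hgm, d.pow_eq_one hg hgm, mul_one] at h1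
      exact h1.symm)) hr hn hu hw hk hcase ⟨v, hv⟩
  have h1 : orderOf v ∣ r := orderOf_dvd_of_pow_eq_one (congrArg Subtype.val h)
  have h2 : orderOf v ∣ s := orderOf_dvd_of_pow_eq_one hv.2.1
  have h3 := Nat.eq_one_of_dvd_coprimes ((Nat.coprime_primes hr hs).2 hrs) h1 h2
  exact hv1 (Subtype.ext (orderOf_eq_one_iff.1 h3))

/-- Elements of order `q` dividing `|F|` are isolated in the quotient. -/
theorem false_of_comm {q r : ℕ} (hq : q.Prime) (hqF : q ∣ Nat.card F) (hr : r.Prime) (hrq : r ≠ q) {a u : G ⧸ F}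
    (ha : orderOf a = q) (hu : orderOf u = r) (h : a * u = u * a) : False := by
  obtain ⟨x, hx⟩ := QuotientGroup.mk_surjective (a * u)
  have ho : orderOf (a * u) = q * r := by
    rw [(show Commute a u from h).orderOf_mul_eq_mul_orderOf_of_coprime
      (by rw [ha, hu]; exact (Nat.coprime_primes hq hr).2 hrq.symm), ha, hu]
  have hne : (x : G ⧸ F) ≠ 1 := fun e => by
    rw [hx] at e
    rw [e, orderOf_one] at ho
    exact hq.ne_one (Nat.eq_one_of_mul_eq_one_right ho.symm)
  obtain ⟨hxF, hxo⟩ := d.orderOf_lift hne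
  rw [hx, ho] at hxo
  have hyo : orderOf (x ^ r) = q := by
    rw [orderOf_pow_of_dvd hr.ne_zero (hxo ▸ dvd_mul_left r q), hxo, Nat.mul_div_cancel _ hr.pos]
  obtain ⟨c, hc, hc1, hcc⟩ := d.exists_fixed hq hyo hqF
  exact hc1 (d.isolated hxF (by rw [hxo]; exact Nat.not_prime_mul hq.ne_one hr.ne_one)
    (fun e => hq.ne_one (by rw [← hyo, e, orderOf_one])) hc hcc)

theorem orderOf_ne_sq {q : ℕ} (hq : q.Prime) (hqF : q ∣ Nat.card F) (w : G ⧸ F) : orderOf w ≠ q * q := by
  intro ho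
  obtain ⟨x, rfl⟩ := QuotientGroup.mk_surjective w
  have hne : (x : G ⧸ F) ≠ 1 := fun e => by
    rw [e, orderOf_one] at ho
    exact hq.ne_one (Nat.eq_one_of_mul_eq_one_right ho.symm)
  obtain ⟨hxF, hxo⟩ := d.orderOf_lift hne
  rw [ho] at hxo
  have hyo : orderOf (x ^ q) = q := by
    rw [orderOf_pow_of_dvd hq.ne_zero (hxo ▸ dvd_mul_left q q), hxo, Nat.mul_div_cancel _ hq.pos]
  obtain ⟨c, hc, hc1, hcc⟩ := d.exists_fixed hq hyo hqF
  exact hc1 (d.isolated hxF (by rw [hxo]; exact Nat.not_prime_mul hq.ne_one hq.ne_one)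
    (fun e => hq.ne_one (by rw [← hyo, e, orderOf_one])) hc hcc)

/-- A prime order element normalizing one of prime order `r` centralizes it, `r` different from some prime
divisor of `|F|`. -/
theorem comm_of_mem {s r n : ℕ} (hs : s.Prime) (hsF : s ∣ Nat.card F) (hr : r.Prime) (hn : n.Prime) (hrs : r ≠ s)
    {u w : G ⧸ F} (hu : orderOf u = r) (hw : orderOf w = n) (hmem : w * u * w⁻¹ ∈ zpowers u) :
    w * u = u * w := by
  obtain ⟨k, hk⟩ := (IsOfFinOrder.mem_powers_iff_mem_zpowers (isOfFinOrder_of_finite u)).2 hmem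
  have hk' : w * u = u ^ k * w := mul_inv_eq_iff_eq_mul.1 hk.symm
  by_cases h1 : k % r = 1
  · rw [hk', ← pow_mod_orderOf, hu, h1, pow_one]
  · exact (d.semi hs hsF hr hn hrs hu hw hk' (Or.inr h1)).elim

theorem mem_of_comm_prime {s r : ℕ} (hs : s.Prime) (hsF : s ∣ Nat.card F) (hr : r.Prime) (hrs : r ≠ s)
    {u w : G ⧸ F} (hu : orderOf u = r) (hw : orderOf w = r) (h : u * w = w * u) : w ∈ zpowers u := by
  by_contra hne
  exact d.semi (k := 1) hs hsF hr hr hrs hu hw (by rw [pow_one, h]) (Or.inl ⟨Nat.mod_eq_of_lt hr.one_lt, rfl, hne⟩)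

theorem qhyp {q : ℕ} (hq : q.Prime) (hqF : q ∣ Nat.card F) : QHyp (G ⧸ F) q where
  norml := fun a u r ha hr hrq hu hmem =>
    d.false_of_comm hq hqF hr hrq ha hu (d.comm_of_mem hq hqF hr hq hrq hu ha hmem)
  rr := fun u w r hr hrq hu hw h => d.mem_of_comm_prime hq hqF hr hrq hu hw h
  four := fun h2 a h => d.orderOf_ne_sq hq hqF a (by rw [h, h2])

/-- **A partition with a normal component**: Hughes subgroup or Frobenius group. -/
theorem hughes_or_frobenius : (∃ p : ℕ, p.Prime ∧ Subgroup.closure {g : G | g ^ p ≠ 1} ≠ ⊤) ∨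
    ∃ H : Subgroup G, Cfsg.IsFrobeniusComplement H := by
  classical
  by_cases hfpf : ∀ a : G, a ∉ F → ∀ c ∈ F, a * c = c * a → c = 1
  · exact Or.inr (d.exists_frobenius hfpf)
  push Not at hfpf
  obtain ⟨a, haF, c, hcF, hac, hc1⟩ := hfpf
  obtain ⟨hq, hoc⟩ := d.prime_of_fixes haF hcF hc1 hac
  set q := orderOf a with hqdef
  haveI := Fact.mk hq
  have hqF : q ∣ Nat.card F := by rw [hoc, ← Subgroup.orderOf_mk c hcF]; exact orderOf_dvd_natCard _
  have hh := d.qhyp hq hqF
  set E := Cfsg.pCore q (G ⧸ F) with hE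
  haveI : E.Normal := CfsgLib.Coprime.pCore_normal' q
  have hEp : IsPGroup q E := CfsgLib.PGroup.isPGroup_pCore q (G ⧸ F)
  set P := E.comap (QuotientGroup.mk' F) with hP
  have hPord : ∀ x ∈ P, x ∉ F → orderOf x = q := by
    intro x hx hxF
    obtain ⟨j, hj'⟩ := IsPGroup.iff_orderOf.1 hEp ⟨_, hx⟩
    have hj : orderOf (x : G ⧸ F) = q ^ j := (orderOf_coe (⟨_, hx⟩ : E)).trans hj'
    have hox := d.orderOf_mk hxF
    rcases j with _ | _ | j
    · rw [pow_zero, orderOf_eq_one_iff, QuotientGroup.eq_one_iff] at hj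
      exact absurd hj hxF
    · rw [← hox, hj, zero_add, pow_one]
    · exfalso
      refine d.orderOf_ne_sq hq hqF ((x : G ⧸ F) ^ q ^ j) ?_
      rw [orderOf_pow_of_dvd (pow_ne_zero _ hq.ne_zero) (hj ▸ pow_dvd_pow q (by omega)), hj,
        Nat.pow_div (by omega) hq.pos, show j + 1 + 1 - j = 2 by omega, sq]
  by_cases htop : E = ⊤
  · refine Or.inl ⟨q, hq, fun h => d.ne_top (top_unique (h.ge.trans ((closure_le F).2 fun x hx => ?_)))⟩
    by_contra hxF
    exact hx (orderOf_dvd_iff_pow_eq_one.1 (hPord x (by rw [hP, htop]; exact mem_top _) hxF).dvd)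
  -- a second prime in the quotient
  obtain ⟨r, hr, hrd⟩ := Nat.exists_prime_and_dvd (mt index_eq_one.1 htop)
  haveI := Fact.mk hr
  have hrq : r ≠ q := fun e => hh.not_dvd_index (show q ∣ E.index from e ▸ hrd)
  obtain ⟨u, hu⟩ := exists_prime_orderOf_dvd_card' (G := G ⧸ F) r (hrd.trans (index_dvd_card E))
  have hEne : E ≠ ⊥ := fun e => by
    have h1 : q ∣ Nat.card (G ⧸ F) := by
      have := orderOf_dvd_natCard (a : G ⧸ F)
      rwa [d.orderOf_mk haF] at this
    refine hh.not_dvd_index ?_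
    rwa [← hE, e, index_bot]
  have hFq : ∀ s : ℕ, s.Prime → s ∣ Nat.card F → s = q := by
    intro s hs hsF
    by_contra hsq
    haveI : Nontrivial E := (nontrivial_iff_ne_bot E).2 hEne
    haveI := hEp.center_nontrivial
    obtain ⟨k, hk⟩ := (hEp.to_subgroup (center E)).exists_card_eq
    have hk0 : k ≠ 0 := fun e => by
      rw [e, pow_zero] at hk
      exact absurd (Finite.one_lt_card (α := center E)) (by omega)
    obtain ⟨z, hz⟩ := exists_prime_orderOf_dvd_card' (G := center E) q (hk ▸ dvd_pow_self q hk0)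
    have hzo : orderOf ((z : E) : G ⧸ F) = q := by rw [orderOf_coe, orderOf_coe, hz]
    have hmem : u * ((z : E) : G ⧸ F) * u⁻¹ ∈ E := (inferInstance : E.Normal).conj_mem _ (z : E).2 u
    have h1 : u * ((z : E) : G ⧸ F) * u⁻¹ ∈ zpowers ((z : E) : G ⧸ F) := by
      refine d.mem_of_comm_prime hs hsF hq (Ne.symm hsq) hzo ?_ ?_
      · rw [show u * ((z : E) : G ⧸ F) * u⁻¹ = MulAut.conj u ((z : E) : G ⧸ F) from rfl, MulEquiv.orderOf_eq, hzo]
      · exact congrArg Subtype.val (mem_center_iff.1 z.2 ⟨_, hmem⟩).symm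
    exact d.false_of_comm hq hqF hr hrq hzo hu (d.comm_of_mem hs hsF hq hr (Ne.symm hsq) hzo hu h1).symm
  -- the preimage of `E` is the kernel
  have hPp : IsPGroup q P := by
    have hFp : IsPGroup q F := IsPGroup.of_card (n := (Nat.card F).primeFactorsList.length)
      (Nat.eq_prime_pow_of_unique_prime_dvd Nat.card_pos.ne' fun {s} hs hd => hFq s hs hd)
    intro x
    obtain ⟨m, hm⟩ := hEp ⟨_, x.2⟩
    have hmF : (x : G) ^ q ^ m ∈ F := by
      rw [← QuotientGroup.eq_one_iff, QuotientGroup.mk_pow]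
      exact congrArg Subtype.val hm
    obtain ⟨n, hn⟩ := hFp ⟨_, hmF⟩
    exact ⟨m + n, Subtype.ext (by simpa [pow_add, pow_mul] using congrArg Subtype.val hn)⟩
  have hPi : P.index = E.index := index_comap_of_surjective E (QuotientGroup.mk'_surjective F)
  obtain ⟨e, he⟩ := hPp.exists_card_eq
  obtain ⟨H, hH⟩ := exists_right_complement'_of_coprime (N := P) (by
    rw [he, hPi]
    exact Nat.Coprime.pow_left e (hq.coprime_iff_not_dvd.2 hh.not_dvd_index))
  have hFP : F ≤ P := fun f hf => by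
    show (f : G ⧸ F) ∈ E
    rw [(QuotientGroup.eq_one_iff f).2 hf]
    exact one_mem E
  refine Or.inr ⟨H, (CfsgLib.Coprime.frob_iff_fixed_point_free hH
    (ne_bot_of_le_ne_bot d.ne_bot hFP) fun e => ?_).2 fun h hh' h1 => ?_⟩
  · have := hH.sup_eq_top
    rw [e, sup_bot_eq] at this
    rw [this, index_top] at hPi
    exact htop (index_eq_one.1 hPi.symm)
  refine (eq_bot_iff_forall _).2 fun x ⟨hxP, hxh⟩ => ?_
  by_contra hx1
  have hxc : Commute x h := mem_centralizer_singleton_iff.1 hxh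
  obtain ⟨t, ht, htd⟩ := Nat.exists_prime_and_dvd (mt orderOf_eq_one_iff.1 h1)
  set y := h ^ (orderOf h / t) with hy
  have hyo : orderOf y = t := orderOf_pow_orderOf_div (orderOf_pos h).ne' htd
  have hyP : y ∉ P := fun hy' => ht.ne_one (by
    have := hH.disjoint.le_bot ⟨hy', pow_mem hh' _⟩
    rw [mem_bot] at this
    rw [← hyo]
    exact orderOf_eq_one_iff.2 this)
  have hyF : y ∉ F := fun h => hyP (hFP h)
  have htq : t ≠ q := fun e => by
    have hcop : P.index.Coprime (Nat.card P) := by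
      rw [he, hPi]
      exact (Nat.Coprime.pow_left _ (hq.coprime_iff_not_dvd.2 hh.not_dvd_index)).symm
    have htH : t ∣ Nat.card H := hyo ▸ Subgroup.orderOf_dvd_natCard H (pow_mem hh' _)
    have hHi : Nat.card H = P.index := by
      refine Nat.eq_of_mul_eq_mul_left (Nat.card_pos (α := P)) ?_
      rw [hH.card_mul, P.card_mul_index]
    rw [hHi, hPi, e] at htH
    exact hh.not_dvd_index htH
  by_cases hxF : x ∈ F
  · obtain ⟨-, h2⟩ := d.prime_of_fixes hyF hxF hx1 (hxc.pow_right _).symm.eq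
    have h3 : t ∣ Nat.card F := by
      rw [← hyo, h2, ← Subgroup.orderOf_mk x hxF]
      exact orderOf_dvd_natCard _
    exact htq (hFq t ht h3)
  · refine d.false_of_comm hq hqF ht htq (a := (x : G ⧸ F)) (u := (y : G ⧸ F)) ?_ ?_ ?_
    · rw [d.orderOf_mk hxF, hPord x hxP hxF]
    · rw [d.orderOf_mk hyF, hyo]
    · rw [← QuotientGroup.mk_mul, ← QuotientGroup.mk_mul, (hxc.pow_right _).eq]

end NComp

end CfsgLib.Partition
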