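import Cfsg.Agent.Lib.Partition.Basic
import Cfsg.Agent.Lib.Partition.Norm
import Cfsg.Agent.Lib.Partition.Quot
import Cfsg.Agent.Lib.Coprime.Solvable
import Cfsg.Agent.Lib.Coprime.Frobenius

/-!
# An abelian minimal normal subgroup spread over several components

Baer: the group is a Frobenius group, has a proper Hughes subgroup, or is the symmetric group of degree four.
-/

set_option autoImplicit false
set_option linter.style.haveILetI false
set_option linter.unusedSectionVars false

namespace CfsgLib.Partition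

open Subgroup
open scoped IsMulCommutative

universe u

variable {G : Type u} [Group G] [Finite G]

/-- The hypotheses. -/
structure Spread (K : G → Subgroup G) (N : Subgroup G) (p : ℕ) : Prop where
  part : IsPart K
  prime : p.Prime
  ne_bot : N ≠ ⊥
  comm : ∀ x ∈ N, ∀ y ∈ N, x * y = y * x
  exp : ∀ x ∈ N, x ^ p = 1
  min : ∀ M : Subgroup G, M.Normal → M ≤ N → M = ⊥ ∨ M = N
  not_le : ∀ n ∈ N, ¬ N ≤ K n

namespace Spread

variable {K : G → Subgroup G} {N : Subgroup G} [hNn : N.Normal] {p : ℕ} (d : Spread K N p)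
include d

theorem not_le_comp (x : G) : ¬ N ≤ K x := by
  intro h
  obtain ⟨⟨n, hn⟩, hn1⟩ := Subgroup.ne_bot_iff_exists_ne_one.1 d.ne_bot
  exact d.not_le n hn (d.part.eq x n (h hn) (fun e => hn1 (Subtype.ext e)) ▸ h)

theorem orderOf_eq {n : G} (hn : n ∈ N) (h1 : n ≠ 1) : orderOf n = p := by
  haveI := Fact.mk d.prime
  exact orderOf_eq_prime (d.exp n hn) h1

/-- The centralizer of `N` has exponent `p`. -/
theorem pow_eq_one {x : G} (hx : x ∈ centralizer (N : Set G)) : x ^ p = 1 := by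
  by_contra hxp
  have hx1 : x ≠ 1 := fun e => hxp (by rw [e, one_pow])
  refine d.not_le_comp x fun n hn => ?_
  by_cases hn1 : n = 1
  · exact hn1 ▸ one_mem _
  refine d.part.mem_of_comm hx1 (mem_centralizer_iff.1 hx n hn).symm fun e => hxp ?_
  rw [← d.orderOf_eq hn hn1, ← e, pow_orderOf_eq_one]

theorem isPGroup : IsPGroup p (centralizer (N : Set G)) :=
  fun x => ⟨1, Subtype.ext (by rw [pow_one]; exact d.pow_eq_one x.2)⟩

theorem le_centralizer : N ≤ centralizer (N : Set G) := fun n hn => mem_centralizer_iff.2 fun m hm => d.comm m hm n hn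

/-- Every normal `p`-subgroup centralizes `N`. -/
theorem le_of_normal {R : Subgroup G} (hR : R.Normal) (hp : IsPGroup p R) : R ≤ centralizer (N : Set G) := by
  haveI := Fact.mk d.prime
  haveI := hR
  set S := R ⊔ N
  have hS : IsPGroup p S := hp.to_sup_of_normal_left (fun x => ⟨1, Subtype.ext (by
    rw [pow_one]; exact d.exp x x.2)⟩)
  haveI := hS.isNilpotent
  haveI : (N.subgroupOf S).Normal := inferInstance
  have hne : N.subgroupOf S ≠ ⊥ := by
    rw [Ne, subgroupOf_eq_bot]
    exact fun h => d.ne_bot (by rw [← inf_eq_left.2 (le_sup_right : N ≤ S)]; exact disjoint_iff.1 h)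
  have h1 := CfsgLib.Coprime.nilpotent_inf_center_ne_bot (N.subgroupOf S) hne
  set M : Subgroup G := N ⊓ centralizer (S : Set G)
  haveI : M.Normal := inferInstance
  have hM : M ≠ ⊥ := by
    intro e
    refine h1 ((eq_bot_iff_forall _).2 fun x hx => Subtype.ext ?_)
    have hxM : (x : G) ∈ M := ⟨hx.1, mem_centralizer_iff.2 fun s hs =>
      congrArg Subtype.val (mem_center_iff.1 hx.2 ⟨s, hs⟩)⟩
    rwa [e, mem_bot] at hxM
  rcases d.min M inferInstance inf_le_left with h | h
  · exact absurd h hM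
  intro r hr
  refine mem_centralizer_iff.2 fun n hn => ?_
  have hnM : n ∈ M := h.ge hn
  exact (mem_centralizer_iff.1 hnM.2 r (mem_sup_left hr)).symm

/-- A component meeting the centralizer of `N` has no element of order prime to `p`. -/
theorem false_of_meets {c y : G} (hc : c ∈ centralizer (N : Set G)) (hc1 : c ≠ 1) (hy : y ∈ K c)
    (hy1 : y ≠ 1) (hcop : (orderOf y).Coprime p) : False := by
  refine d.not_le_comp c fun n hn => ?_
  have hnorm : ∀ z ∈ K c, n⁻¹ * z * n ∈ K c := fun z hz => by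
    have := d.part.conj_mem_of_comm (g := n⁻¹)
      (mem_centralizer_iff.1 hc n⁻¹ (inv_mem hn)) hz
    rwa [inv_inv] at this
  have hpow : ∀ j : ℕ, (n ^ j)⁻¹ * (n * y) ^ j ∈ K c := by
    intro j
    induction j with
    | zero => simp
    | succ j ih =>
      rw [show (n ^ (j + 1))⁻¹ * (n * y) ^ (j + 1) = n⁻¹ * ((n ^ j)⁻¹ * (n * y) ^ j) * n * y by
        rw [pow_succ n j, pow_succ]; group]
      exact mul_mem (hnorm _ ih) hy
  haveI : IsMulCommutative N := ⟨⟨fun a b => Subtype.ext (d.comm a a.2 b b.2)⟩⟩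
  set o := orderOf y
  have hno : n ^ o ∈ K c := by
    set m := nrm N y o ⟨n, hn⟩ with hm
    have h1 : (n * y) ^ o = (m : G) := by
      have := coe_nrm_mul_pow N y o ⟨n, hn⟩
      rwa [pow_orderOf_eq_one, mul_one] at this
    have h2 : y * (m : G) = m * y := by
      have := congrArg Subtype.val (conj_nrm N y o (fun v => by rw [← map_pow, pow_orderOf_eq_one, map_one]; rfl) ⟨n, hn⟩)
      rw [MulAut.conjNormal_apply, mul_inv_eq_iff_eq_mul] at this
      exact this
    have h3 : (m : G) ∈ K c := by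
      by_cases hm1 : (m : G) = 1
      · exact hm1 ▸ one_mem _
      · rw [← d.part.eq c y hy hy1]
        refine d.part.mem_of_comm hy1 h2 fun e => hy1 (orderOf_eq_one_iff.1 ?_)
        rw [d.orderOf_eq m.2 hm1] at e
        change (orderOf y).Coprime p at hcop
        rw [e] at hcop
        exact absurd hcop (by rw [Nat.coprime_self]; exact d.prime.ne_one)
    have h4 := mul_mem h3 (inv_mem (hpow o))
    rw [h1, mul_inv_rev, inv_inv, mul_inv_cancel_left] at h4
    exact h4
  obtain ⟨k, hk⟩ := exists_pow_eq_self_of_coprime (x := n) (n := o)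
    (Nat.Coprime.coprime_dvd_right (orderOf_dvd_of_pow_eq_one (d.exp n hn)) hcop)
  exact hk ▸ pow_mem hno k

/-- Elements of order prime to `p` act fixed point freely on the centralizer of `N`. -/
theorem fpf {c y : G} (hc : c ∈ centralizer (N : Set G)) (hy1 : y ≠ 1) (hcop : (orderOf y).Coprime p)
    (h : c * y = y * c) : c = 1 := by
  haveI := Fact.mk d.prime
  by_contra hc1
  refine d.false_of_meets hc hc1 (d.part.mem_of_comm hc1 h ?_) hy1 hcop
  rw [orderOf_eq_prime (d.pow_eq_one hc) hc1]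
  intro e
  rw [← e, Nat.coprime_self] at hcop
  exact d.prime.ne_one hcop

theorem exists_fixed {g : G} (hg : IsPGroup p (zpowers g)) {V : Subgroup G} [V.Normal] (hVN : N ≤ V)
    (hV : ∀ x ∈ V, x ^ p = 1) : ∃ n ∈ V, n ≠ 1 ∧ n * g = g * n := by
  haveI := Fact.mk d.prime
  letI : MulAction (zpowers g) V :=
    MulAction.compHom V ((MulAut.conjNormal : G →* MulAut V).comp (zpowers g).subtype)
  obtain ⟨⟨n, hn⟩, hn1⟩ := Subgroup.ne_bot_iff_exists_ne_one.1 d.ne_bot
  have hdvd : p ∣ Nat.card V := by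
    rw [← d.orderOf_eq hn (fun e => hn1 (Subtype.ext e)), ← Subgroup.orderOf_mk n (hVN hn)]
    exact orderOf_dvd_natCard _
  obtain ⟨c, hc, hne⟩ := hg.exists_fixed_point_of_prime_dvd_card_of_fixed_point V hdvd
    (a := (1 : V)) (fun h => map_one (MulAut.conjNormal (h : G)))
  have h2 : g * c * g⁻¹ = c := congrArg Subtype.val (hc ⟨g, mem_zpowers g⟩)
  exact ⟨c, c.2, fun e => hne (Subtype.ext e.symm), (mul_inv_eq_iff_eq_mul.1 h2).symm⟩

/-- A `p`-element commutes with no nontrivial element of order prime to `p`. -/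
theorem isolated {g h : G} (hg : IsPGroup p (zpowers g)) (hg1 : g ≠ 1) (hh1 : h ≠ 1)
    (hcop : (orderOf h).Coprime p) (hgh : g * h = h * g) : False := by
  haveI := Fact.mk d.prime
  obtain ⟨n, hn, hn1, hng⟩ := d.exists_fixed hg le_rfl d.exp
  obtain ⟨j, hj⟩ := IsPGroup.iff_orderOf.1 hg ⟨g, mem_zpowers g⟩
  rw [Subgroup.orderOf_mk] at hj
  have hhL : h ∈ K g := d.part.mem_of_comm hg1 hgh fun e => hh1 (orderOf_eq_one_iff.1 (by
    rw [← e, hj] at hcop
    rcases j with _ | j
    · rw [← e, hj, pow_zero]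
    · exact absurd (Nat.eq_one_of_dvd_coprimes hcop (dvd_pow_self p j.succ_ne_zero) dvd_rfl) d.prime.ne_one))
  have h1 := mul_mem (d.part.conj_mem_of_comm hng hhL) (inv_mem hhL)
  have h2 : n * h * n⁻¹ * h⁻¹ ∈ N := by
    rw [show n * h * n⁻¹ * h⁻¹ = n * (h * n⁻¹ * h⁻¹) by group]
    exact mul_mem hn (hNn.conj_mem _ (inv_mem hn) h)
  have h3 : n * h * n⁻¹ * h⁻¹ ≠ 1 := fun e => hn1 (d.fpf (d.le_centralizer hn) hh1 hcop
    (mul_inv_eq_iff_eq_mul.1 (mul_inv_eq_one.1 e)))
  exact d.false_of_meets (d.le_centralizer h2) h3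
    ((d.part.eq g _ h1 h3).symm ▸ hhL) hh1 hcop

/-- **Transvections**: a nontrivial norm forces `p = 2` and a centralizer of index two. -/
theorem transvection (V : Subgroup G) [V.Normal] [IsMulCommutative V] (hVN : N ≤ V)
    (hVP : V ≤ centralizer (N : Set G)) {x : G} (hx : x ^ p ∈ centralizer (N : Set G))
    (hnt : ∃ v : V, nrm V x p v ≠ 1) :
    p = 2 ∧ ∀ v w : V, (v : G) * x ≠ x * v → (w : G) * x ≠ x * w → (v : G) * w * x = x * ((v : G) * w) := by
  classical
  haveI := Fact.mk d.prime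
  have hVexp : ∀ z ∈ V, z ^ p = 1 := fun z hz => d.pow_eq_one (hVP hz)
  obtain ⟨n0, hn0⟩ : ∃ n0 : V, ((n0 : G) * x) ^ p ≠ 1 := by
    obtain ⟨v, hv⟩ := hnt
    by_contra hc
    push Not at hc
    have h1 := hc 1
    rw [OneMemClass.coe_one, one_mul] at h1
    have h2 := hc v
    rw [coe_nrm_mul_pow, h1, mul_one] at h2
    exact hv (Subtype.ext h2)
  set x' := (n0 : G) * x with hx'
  have hact : (MulAut.conjNormal x' : MulAut V) = MulAut.conjNormal x := by
    refine MulEquiv.ext fun t => Subtype.ext ?_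
    rw [MulAut.conjNormal_apply, MulAut.conjNormal_apply, hx']
    have hc : (n0 : G) * (x * t * x⁻¹) = x * t * x⁻¹ * n0 :=
      congrArg Subtype.val (mul_comm n0 (MulAut.conjNormal x t))
    calc (n0 : G) * x * t * ((n0 : G) * x)⁻¹ = (n0 : G) * (x * t * x⁻¹) * (n0 : G)⁻¹ := by group
      _ = _ := by rw [hc, mul_inv_cancel_right]
  have hnrm : ∀ v : V, nrm V x' p v = nrm V x p v := fun v => by rw [nrm, nrm, hact]
  have hxP : ∀ v : V, ((v : G) * x') ^ p ∈ centralizer (N : Set G) := fun v => by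
    rw [hx', ← mul_assoc, ← Subgroup.coe_mul, coe_nrm_mul_pow]
    exact mul_mem (hVP (nrm V x p (v * n0)).2) hx
  have hpgen : ∀ g : G, g ^ p ∈ centralizer (N : Set G) → IsPGroup p (zpowers g) := by
    intro g hg
    obtain ⟨i, -, hi⟩ := (Nat.dvd_prime_pow d.prime).1 (orderOf_dvd_of_pow_eq_one
      (show g ^ (p ^ 2) = 1 by rw [sq, pow_mul]; exact d.pow_eq_one hg))
    exact IsPGroup.of_card (n := i) (by rw [Nat.card_zpowers, hi])
  have hx'P : x' ^ p ∈ centralizer (N : Set G) := by
    have := hxP 1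
    rwa [OneMemClass.coe_one, one_mul] at this
  obtain ⟨c, hcV, hc1, hcx⟩ := d.exists_fixed (hpgen x' hx'P) hVN hVexp
  have hord : ∀ g : G, g ^ p ≠ 1 → g ≠ 1 ∧ orderOf g ≠ orderOf c := fun g hg =>
    ⟨fun e => hg (by rw [e, one_pow]), fun e => hg (by
      rw [← orderOf_eq_prime (hVexp c hcV) hc1, ← e, pow_orderOf_eq_one])⟩
  have hS : ∀ v : V, ((v : G) * x') ^ p ≠ 1 → (v : G) ∈ K x' := by
    intro v hv
    obtain ⟨h1, h2⟩ := hord _ hv
    obtain ⟨h3, h4⟩ := hord x' hn0
    have hcv : (v : G) * c = c * v := congrArg Subtype.val (mul_comm v ⟨c, hcV⟩)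
    have e1 : c ∈ K ((v : G) * x') := d.part.mem_of_comm h1
      (by rw [mul_assoc, ← hcx, ← mul_assoc, hcv, mul_assoc]) h2
    have e2 : c ∈ K x' := d.part.mem_of_comm h3 hcx.symm h4
    have e3 : (v : G) * x' ∈ K x' := by
      rw [← d.part.eq x' c e2 hc1, d.part.eq _ c e1 hc1]
      exact d.part.mem _
    have := mul_mem e3 (inv_mem (d.part.mem x'))
    rwa [mul_inv_cancel_right] at this
  have hT : ∀ v : V, (v : G) ∉ K x' →
      ((v : G) * x') ^ p = 1 := fun v hv => by_contra fun h => hv (hS v h)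
  have hdiff : ∀ v w : V, (v : G) ∉ K x' → (w : G) ∉ K x' → nrm V x p (v⁻¹ * w) = 1 := by
    intro v w hv hw
    have h1 := hT v hv
    have h2 := hT w hw
    rw [coe_nrm_mul_pow] at h1 h2
    have h3 : nrm V x p v = nrm V x p w := by
      rw [← hnrm, ← hnrm]
      exact Subtype.ext (mul_right_cancel (h1.trans h2.symm))
    have h4 := nrm_mul V x p v (v⁻¹ * w)
    rw [mul_inv_cancel_left, ← h3] at h4
    exact left_eq_mul.1 h4
  -- the component meets `V` inside the kernel of the norm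
  obtain ⟨n, hn, hnL⟩ := SetLike.not_le_iff_exists.1 (d.not_le_comp x')
  have hXker : ∀ v : V, (v : G) ∈ K x' → nrm V x p v = 1 := fun v hv => by
    have h1 : ((⟨n, hVN hn⟩ * v : V) : G) ∉ K x' := fun h => hnL (by
      have h' := mul_mem h (inv_mem hv)
      rwa [Subgroup.coe_mul, mul_inv_cancel_right] at h')
    have := hdiff ⟨n, hVN hn⟩ _ hnL h1
    rwa [inv_mul_cancel_left] at this
  have hout : ∀ v w : V, nrm V x p v ≠ 1 → nrm V x p w ≠ 1 → nrm V x p (v⁻¹ * w) = 1 := fun v w hv hw =>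
    hdiff v w (fun h => hv (hXker v h)) (fun h => hw (hXker w h))
  obtain ⟨k, hk⟩ := hnt
  have hp2 : p = 2 := by
    by_contra hp2
    have hk2 : nrm V x p (k * k) ≠ 1 := fun h => hk (by
      have h1 : ∀ m : ℕ, nrm V x p (k ^ (2 * m)) = 1 := by
        intro m
        induction m with
        | zero => exact Finset.prod_eq_one fun j _ => by rw [Nat.mul_zero, pow_zero, map_one]
        | succ m ih => rw [mul_add, pow_add, nrm_mul, ih, mul_one, sq, h, one_mul]
      obtain ⟨m, hm⟩ := d.prime.odd_of_ne_two hp2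
      have h2 := h1 (m + 1)
      rw [show 2 * (m + 1) = p + 1 by omega, pow_succ,
        show k ^ p = 1 from Subtype.ext (by rw [Subgroup.coe_pow]; exact hVexp k k.2), one_mul] at h2
      exact h2)
    have := hout k (k * k) hk hk2
    rw [inv_mul_cancel_left] at this
    exact hk this
  subst hp2
  refine ⟨rfl, fun v w hv hw => ?_⟩
  have hker : ∀ t : V, nrm V x 2 t = 1 ↔ (t : G) * x = x * t := fun t => by
    have hi : (t : G)⁻¹ = t := inv_eq_of_mul_eq_one_right (by rw [← sq]; exact hVexp t t.2)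
    rw [nrm_succ, nrm_succ, nrm, Finset.prod_range_zero, map_one, mul_one, ← inv_eq_iff_mul_eq_one, Subtype.ext_iff,
      Subgroup.coe_inv, hi, MulAut.conjNormal_apply, eq_mul_inv_iff_mul_eq]
  have h1 := hout v w (fun h => hv ((hker v).1 h)) (fun h => hw ((hker w).1 h))
  have hvv : v⁻¹ = v := Subtype.ext (by
    rw [Subgroup.coe_inv]; exact inv_eq_of_mul_eq_one_right (by rw [← sq]; exact hVexp v v.2))
  rw [hvv] at h1
  exact (hker _).1 h1

end Spread

end CfsgLib.Partition
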